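import Cfsg.Agent.Lib.Helper24.CT.Defs

/-!
# S4146 leaf B02: arithmetic of the four class sizes

All statements are pure arithmetic consequences of `Hyp` (`1 < m < n`, `m.Coprime n`, `cs`).
RECIPE.  `n ∣ m * k` with `m.Coprime n` gives `n ∣ k` (`Nat.Coprime.dvd_of_dvd_mul_left`).
`cl g ∣ m` and `cl g ∈ {1, m, n, m*n}`: `n ∣ m` is impossible (`Nat.Coprime.eq_one_of_dvd`, `1 < n`), and `m * n ∣ m` too.
-/

set_option autoImplicit false

namespace Cfsg.Agent.Lib.Helper24.CT

variable {G : Type*} [Group G] {m n : ℕ}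

theorem Hyp.one_lt_n (h : Hyp G m n) : 1 < n := lt_trans h.one_lt_m h.lt

/-- a class size dividing `m` is `1` or `m` -/
theorem Hyp.cl_of_dvd_m (h : Hyp G m n) {g : G} (hg : cl g ∣ m) : cl g = 1 ∨ cl g = m := by
  have hn1 := h.one_lt_n
  have hm1 := h.one_lt_m
  rcases h.cs g with h1 | h1 | h1 | h1
  · exact Or.inl h1
  · exact Or.inr h1
  · exfalso
    rw [h1] at hg
    have := Nat.Coprime.eq_one_of_dvd h.cop.symm hg
    omega
  · exfalso
    rw [h1] at hg
    have h2 : n ∣ m := Dvd.dvd.trans (Dvd.intro_left m rfl) hg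
    have := Nat.Coprime.eq_one_of_dvd h.cop.symm h2
    omega

/-- a class size dividing `n` is `1` or `n` -/
theorem Hyp.cl_of_dvd_n (h : Hyp G m n) {g : G} (hg : cl g ∣ n) : cl g = 1 ∨ cl g = n := by
  have hn1 := h.one_lt_n
  have hm1 := h.one_lt_m
  rcases h.cs g with h1 | h1 | h1 | h1
  · exact Or.inl h1
  · exfalso
    rw [h1] at hg
    have := Nat.Coprime.eq_one_of_dvd h.cop hg
    omega
  · exact Or.inr h1
  · exfalso
    rw [h1] at hg
    have h2 : m ∣ n := Dvd.dvd.trans (Dvd.intro n rfl) hg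
    have := Nat.Coprime.eq_one_of_dvd h.cop h2
    omega

/-- a class size divisible by `m` is `m` or `m * n` -/
theorem Hyp.cl_of_m_dvd (h : Hyp G m n) {g : G} (hg : m ∣ cl g) : cl g = m ∨ cl g = m * n := by
  have hn1 := h.one_lt_n
  have hm1 := h.one_lt_m
  rcases h.cs g with h1 | h1 | h1 | h1
  · exfalso
    rw [h1] at hg
    have := Nat.eq_one_of_dvd_one hg
    omega
  · exact Or.inl h1
  · exfalso
    rw [h1] at hg
    have := Nat.Coprime.eq_one_of_dvd h.cop hg
    omega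
  · exact Or.inr h1

/-- a class size divisible by `n` is `n` or `m * n` -/
theorem Hyp.cl_of_n_dvd (h : Hyp G m n) {g : G} (hg : n ∣ cl g) : cl g = n ∨ cl g = m * n := by
  have hn1 := h.one_lt_n
  have hm1 := h.one_lt_m
  rcases h.cs g with h1 | h1 | h1 | h1
  · exfalso
    rw [h1] at hg
    have := Nat.eq_one_of_dvd_one hg
    omega
  · exfalso
    rw [h1] at hg
    have := Nat.Coprime.eq_one_of_dvd h.cop.symm hg
    omega
  · exact Or.inl h1
  · exact Or.inr h1

/-- every class size divides `m * n`, hence is at most `m * n` -/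
theorem Hyp.cl_dvd_mul (h : Hyp G m n) (g : G) : cl g ∣ m * n := by
  rcases h.cs g with h1 | h1 | h1 | h1
  · rw [h1]
    exact one_dvd _
  · rw [h1]
    exact Dvd.intro n rfl
  · rw [h1]
    exact Dvd.intro_left m rfl
  · rw [h1]

theorem Hyp.cl_le_mul (h : Hyp G m n) (g : G) : cl g ≤ m * n := by
  have hn1 := h.one_lt_n
  have hm1 := h.one_lt_m
  exact Nat.le_of_dvd (by positivity) (h.cl_dvd_mul g)

/-- a prime dividing `m` does not divide `n` and conversely -/
theorem Hyp.not_dvd_n_of_dvd_m (h : Hyp G m n) {p : ℕ} (hp : p.Prime) (hpm : p ∣ m) : ¬ p ∣ n := by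
  intro hpn
  have h1 : p ∣ Nat.gcd m n := Nat.dvd_gcd hpm hpn
  rw [h.cop] at h1
  exact hp.one_lt.ne' (Nat.eq_one_of_dvd_one h1)

theorem Hyp.not_dvd_m_of_dvd_n (h : Hyp G m n) {p : ℕ} (hp : p.Prime) (hpn : p ∣ n) : ¬ p ∣ m := by
  intro hpm
  have h1 : p ∣ Nat.gcd m n := Nat.dvd_gcd hpm hpn
  rw [h.cop] at h1
  exact hp.one_lt.ne' (Nat.eq_one_of_dvd_one h1)

end Cfsg.Agent.Lib.Helper24.CT
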