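import Cfsg.Agent.Lib.Helper24.CT.B01
import Cfsg.Agent.Lib.Helper24.CT.B02
import Cfsg.Agent.Lib.Helper4.ComplementSystem

/-!
# S4146 leaf B04: coprime class sizes: `G = C(b) C(a)`; conjugates of `a` are `C(b)`-conjugates

PAPER PROOF.  `cl a = m` and `cl b = n` are coprime, so every `g : G` is `g = y * c` with `y ∈ centralizer {b}`,
`c ∈ centralizer {a}` (library: `Cfsg.Agent.Lib.Helper4.exists_mul_of_coprime_index` in
`Cfsg/Agent/Lib/Helper4/ComplementSystem.lean`, used in `Cfsg/Agent/S4127.lean` step C; or Mathlib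
`Subgroup.IsComplement'`/`Subgroup.card_mul`-style argument).  Then `g * a * g⁻¹ = y * a * y⁻¹`.
`commute_conj_of_commute`: if `a` commutes with `b` then so does `y * a * y⁻¹` (as `y` commutes with `b`).
`commute_conj_conj`: conjugate the pair.
-/

set_option autoImplicit false

namespace Cfsg.Agent.Lib.Helper24.CT

variable {G : Type*} [Group G] {m n : ℕ}

theorem Hyp.exists_mul_centralizers [Finite G] (h : Hyp G m n) {a b : G} (ha : cl a = m) (hb : cl b = n) (g : G) :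
    ∃ y ∈ Subgroup.centralizer ({b} : Set G), ∃ c ∈ Subgroup.centralizer ({a} : Set G), g = y * c := by
  apply Cfsg.Agent.Lib.Helper4.exists_mul_of_coprime_index
  show (cl b).Coprime (cl a)
  rw [ha, hb]
  exact h.cop.symm

theorem Hyp.exists_mul_centralizers' [Finite G] (h : Hyp G m n) {a b : G} (ha : cl a = m) (hb : cl b = n) (g : G) :
    ∃ c ∈ Subgroup.centralizer ({a} : Set G), ∃ y ∈ Subgroup.centralizer ({b} : Set G), g = c * y := by
  apply Cfsg.Agent.Lib.Helper4.exists_mul_of_coprime_index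
  show (cl a).Coprime (cl b)
  rw [ha, hb]
  exact h.cop

theorem Hyp.conj_eq_conj_centralizer [Finite G] (h : Hyp G m n) {a b : G} (ha : cl a = m) (hb : cl b = n) (g : G) :
    ∃ y ∈ Subgroup.centralizer ({b} : Set G), g * a * g⁻¹ = y * a * y⁻¹ := by
  obtain ⟨y, hy, c, hc, rfl⟩ := h.exists_mul_centralizers ha hb g
  refine ⟨y, hy, ?_⟩
  have hca : c * a = a * c := (Subgroup.mem_centralizer_singleton_iff.mp hc)
  calc y * c * a * (y * c)⁻¹ = y * (c * a) * c⁻¹ * y⁻¹ := by group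
    _ = y * (a * c) * c⁻¹ * y⁻¹ := by rw [hca]
    _ = y * a * y⁻¹ := by group

theorem Hyp.conj_eq_conj_centralizer' [Finite G] (h : Hyp G m n) {a b : G} (ha : cl a = m) (hb : cl b = n) (g : G) :
    ∃ c ∈ Subgroup.centralizer ({a} : Set G), g * b * g⁻¹ = c * b * c⁻¹ := by
  obtain ⟨c, hc, y, hy, rfl⟩ := h.exists_mul_centralizers' ha hb g
  refine ⟨c, hc, ?_⟩
  have hyb : y * b = b * y := (Subgroup.mem_centralizer_singleton_iff.mp hy)
  calc c * y * b * (c * y)⁻¹ = c * (y * b) * y⁻¹ * c⁻¹ := by group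
    _ = c * (b * y) * y⁻¹ * c⁻¹ := by rw [hyb]
    _ = c * b * c⁻¹ := by group

/-- F2: if `a` (class size `m`) commutes with `b` (class size `n`) then every conjugate of `a` commutes with `b` -/
theorem Hyp.commute_conj_of_commute [Finite G] (h : Hyp G m n) {a b : G} (ha : cl a = m) (hb : cl b = n)
    (hab : Commute a b) (g : G) : Commute (g * a * g⁻¹) b := by
  obtain ⟨y, hy, hya⟩ := h.conj_eq_conj_centralizer ha hb g
  rw [hya]
  have hyb : y * b = b * y := (Subgroup.mem_centralizer_singleton_iff.mp hy)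
  have hab' : a * b = b * a := hab
  show y * a * y⁻¹ * b = b * (y * a * y⁻¹)
  have hyb' : y⁻¹ * b = b * y⁻¹ := by
    calc y⁻¹ * b = y⁻¹ * (b * y) * y⁻¹ := by group
      _ = y⁻¹ * (y * b) * y⁻¹ := by rw [hyb]
      _ = b * y⁻¹ := by group
  calc y * a * y⁻¹ * b = y * a * (y⁻¹ * b) := by group
    _ = y * a * (b * y⁻¹) := by rw [hyb']
    _ = y * (a * b) * y⁻¹ := by group
    _ = y * (b * a) * y⁻¹ := by rw [hab']
    _ = (y * b) * a * y⁻¹ := by group
    _ = (b * y) * a * y⁻¹ := by rw [hyb]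
    _ = b * (y * a * y⁻¹) := by group

theorem Hyp.commute_conj_conj [Finite G] (h : Hyp G m n) {a b : G} (ha : cl a = m) (hb : cl b = n)
    (hab : Commute a b) (g g' : G) : Commute (g * a * g⁻¹) (g' * b * g'⁻¹) := by
  -- conjugate by g'⁻¹
  have h1 := h.commute_conj_of_commute ha hb hab (g'⁻¹ * g)
  have h1' : (g'⁻¹ * g) * a * (g'⁻¹ * g)⁻¹ * b = b * ((g'⁻¹ * g) * a * (g'⁻¹ * g)⁻¹) := h1
  show g * a * g⁻¹ * (g' * b * g'⁻¹) = g' * b * g'⁻¹ * (g * a * g⁻¹)
  calc g * a * g⁻¹ * (g' * b * g'⁻¹)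
      = g' * ((g'⁻¹ * g) * a * (g'⁻¹ * g)⁻¹ * b) * g'⁻¹ := by group
    _ = g' * (b * ((g'⁻¹ * g) * a * (g'⁻¹ * g)⁻¹)) * g'⁻¹ := by rw [h1']
    _ = g' * b * g'⁻¹ * (g * a * g⁻¹) := by group

end Cfsg.Agent.Lib.Helper24.CT
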