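import Cfsg.Agent.Lib.Helper24.CT.B01
import Cfsg.Agent.Lib.Helper24.CT.B02

/-!
# S4146 leaf B05: primary parts

PAPER PROOF of `exists_primary_not_mem`.  Strong induction on `orderOf g` (finite group).  If every prime-power-order element of
`zpowers g` lies in the subgroup `Z`, then `g ∈ Z`: if `orderOf g = 1` trivial.  Otherwise pick a prime `p ∣ orderOf g`, write
`orderOf g = p ^ k * u` with `p ∤ u` (`Nat.exists_eq_pow_mul_and_not_dvd` or `Nat.factorization`); `g ^ u` has order `p ^ k` so lies in `Z`;
`g ^ (p ^ k)` has order `u < orderOf g` and its powers are powers of `g`, so it lies in `Z` by induction; by Bezout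
(`Nat.Coprime`, `Nat.gcd_eq_gcd_ab` or `exists_pow_eq_self_of_coprime`-style) `g` is a product of powers of these two.
(Alternative: `IsPGroup`/`Sylow` of the cyclic group `zpowers g`: a finite commutative group is generated by its Sylow subgroups.)
The library may already contain this: search `Cfsg/Agent/Lib` for `primary`, `exists_mul_of_coprime`, `pPart`
(e.g. `Cfsg.Agent.Lib.Helper22.PElt`).
`exists_primary_cl_m`: apply with `Z = center G` (`cl_eq_one_iff`); `a ∈ zpowers g` gives `centralizer {g} ≤ centralizer {a}`, so `cl a ∣ cl g = m`,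
`cl a ≠ 1`, hence `cl a = m` (`Hyp.cl_of_dvd_m`) and then the two centralizers have the same index, so they are equal
(`Cfsg.Agent.Lib.Helper12.TwoClassN.eq_of_le_of_index_eq`).
-/

set_option autoImplicit false

namespace Cfsg.Agent.Lib.Helper24.CT

variable {G : Type*} [Group G] {m n : ℕ}

theorem exists_primary_not_mem [Finite G] (Z : Subgroup G) {g : G} (hg : g ∉ Z) :
    ∃ p : ℕ, p.Prime ∧ ∃ a ∈ Subgroup.zpowers g, IsPrimary p a ∧ a ∉ Z := by
  classical
  by_contra hcon0
  have hcon : ∀ p : ℕ, p.Prime → ∀ a ∈ Subgroup.zpowers g, IsPrimary p a → a ∈ Z := by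
    intro p hp a ha hpa
    by_contra hn
    exact hcon0 ⟨p, hp, a, ha, hpa, hn⟩
  apply hg
  have key : ∀ N : ℕ, ∀ x ∈ Subgroup.zpowers g, orderOf x = N → x ∈ Z := by
    intro N
    induction N using Nat.strong_induction_on with
    | _ N ih =>
      intro x hx hN
      by_cases h1 : N = 1
      · rw [h1] at hN
        rw [orderOf_eq_one_iff] at hN
        rw [hN]; exact Z.one_mem
      · have hNpos : 0 < N := by rw [← hN]; exact orderOf_pos x
        obtain ⟨p, hp, hpN⟩ := Nat.exists_prime_and_dvd h1
        obtain ⟨k, u, hpu, hNku⟩ :=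
          Nat.exists_eq_pow_mul_and_not_dvd (Nat.pos_iff_ne_zero.mp hNpos) p hp.ne_one
        have hk : k ≠ 0 := by
          rintro rfl
          rw [pow_zero, one_mul] at hNku
          rw [hNku] at hpN; exact hpu hpN
        have hupos : 0 < u := by
          rcases Nat.eq_zero_or_pos u with h0 | h0
          · rw [h0, mul_zero] at hNku; omega
          · exact h0
        have hpk1 : 1 < p ^ k := Nat.one_lt_pow hk hp.one_lt
        have hxu : orderOf (x ^ u) = p ^ k := by
          rw [orderOf_pow' x (Nat.pos_iff_ne_zero.mp hupos), hN, hNku, Nat.gcd_mul_left_left,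
            Nat.mul_div_cancel _ hupos]
        have hxpk : orderOf (x ^ (p ^ k)) = u := by
          rw [orderOf_pow' x (by positivity), hN, hNku, Nat.gcd_mul_right_left,
            Nat.mul_div_cancel_left _ (by positivity)]
        have hxu_mem : x ^ u ∈ Z :=
          hcon p hp (x ^ u) (Subgroup.pow_mem _ hx u) ⟨k, hxu⟩
        have hult : u < N := by
          rw [hNku]; nlinarith
        have hxpk_mem : x ^ (p ^ k) ∈ Z :=
          ih u hult (x ^ (p ^ k)) (Subgroup.pow_mem _ hx _) hxpk
        have hcop : Nat.Coprime (p ^ k) u :=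
          Nat.Coprime.pow_left k ((Nat.Prime.coprime_iff_not_dvd hp).mpr hpu)
        have hbez : ((p ^ k : ℕ) : ℤ) * Nat.gcdA (p ^ k) u + (u : ℤ) * Nat.gcdB (p ^ k) u = 1 := by
          have := Nat.gcd_eq_gcd_ab (p ^ k) u
          rw [hcop] at this
          push_cast at this ⊢
          linarith
        have hx_eq : x = (x ^ (p ^ k)) ^ (Nat.gcdA (p ^ k) u) * (x ^ u) ^ (Nat.gcdB (p ^ k) u) := by
          rw [← zpow_natCast x (p ^ k), ← zpow_natCast x u, ← zpow_mul, ← zpow_mul, ← zpow_add,
            hbez, zpow_one]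
        rw [hx_eq]
        exact Z.mul_mem (Z.zpow_mem hxpk_mem _) (Z.zpow_mem hxu_mem _)
  exact key (orderOf g) g (Subgroup.mem_zpowers g) rfl

/-- auxiliary: a subgroup containing another one of the same (finite) index is equal to it -/
theorem B05_eq_of_le_of_index_eq [Finite G] {H K : Subgroup G} (hle : H ≤ K) (hidx : H.index = K.index) :
    H = K := by
  have h1 : H.relIndex K * K.index = H.index := Subgroup.relIndex_mul_index hle
  have hK : K.index ≠ 0 := Subgroup.index_ne_zero_of_finite
  have h2 : H.relIndex K = 1 := by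
    rw [hidx] at h1
    have : H.relIndex K * K.index = 1 * K.index := by rw [one_mul]; exact h1
    exact Nat.eq_of_mul_eq_mul_right (Nat.pos_of_ne_zero hK) this
  exact le_antisymm hle (Subgroup.relIndex_eq_one.mp h2)

theorem Hyp.exists_primary_cl_m [Finite G] (h : Hyp G m n) {g : G} (hg : cl g = m) :
    ∃ p : ℕ, p.Prime ∧ ∃ a ∈ Subgroup.zpowers g, IsPrimary p a ∧ cl a = m ∧
      Subgroup.centralizer ({a} : Set G) = Subgroup.centralizer ({g} : Set G) := by
  have hgZ : g ∉ Subgroup.center G := by
    intro hc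
    have := (cl_eq_one_iff g).mpr hc
    have h1 := h.one_lt_m
    omega
  obtain ⟨p, hp, a, ha, hpa, haZ⟩ := exists_primary_not_mem (Subgroup.center G) hgZ
  have hdvd : cl a ∣ m := hg ▸ cl_dvd_of_mem_zpowers ha
  have hne1 : cl a ≠ 1 := fun h1 => haZ ((cl_eq_one_iff a).mp h1)
  have hcla : cl a = m := by
    rcases h.cl_of_dvd_m hdvd with h1 | h1
    · exact absurd h1 hne1
    · exact h1
  refine ⟨p, hp, a, ha, hpa, hcla, ?_⟩
  symm
  apply B05_eq_of_le_of_index_eq (centralizer_le_of_mem_zpowers' ha)
  change cl g = cl a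
  rw [hg, hcla]

theorem Hyp.exists_primary_cl_n [Finite G] (h : Hyp G m n) {g : G} (hg : cl g = n) :
    ∃ p : ℕ, p.Prime ∧ ∃ b ∈ Subgroup.zpowers g, IsPrimary p b ∧ cl b = n ∧
      Subgroup.centralizer ({b} : Set G) = Subgroup.centralizer ({g} : Set G) := by
  have hgZ : g ∉ Subgroup.center G := by
    intro hc
    have := (cl_eq_one_iff g).mpr hc
    have h1 := h.one_lt_n
    omega
  obtain ⟨p, hp, a, ha, hpa, haZ⟩ := exists_primary_not_mem (Subgroup.center G) hgZ
  have hdvd : cl a ∣ n := hg ▸ cl_dvd_of_mem_zpowers ha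
  have hne1 : cl a ≠ 1 := fun h1 => haZ ((cl_eq_one_iff a).mp h1)
  have hcla : cl a = n := by
    rcases h.cl_of_dvd_n hdvd with h1 | h1
    · exact absurd h1 hne1
    · exact h1
  refine ⟨p, hp, a, ha, hpa, hcla, ?_⟩
  symm
  apply B05_eq_of_le_of_index_eq (centralizer_le_of_mem_zpowers' ha)
  change cl g = cl a
  rw [hg, hcla]

end Cfsg.Agent.Lib.Helper24.CT
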