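import Cfsg.Agent.Lib.Helper24.CT.B04

/-!
# S4146 leaf B06 (L5): a primary element of class size `m` whose prime does not divide `n` commutes with every element of
class size `n`; symmetric statement

PAPER PROOF.  `a` a `t`-element, `cl a = m`, `t ∤ n`, `cl b = n`.  `centralizer {b}` has index `n` prime to `t`, so it contains a Sylow
`t`-subgroup of `G`, hence a conjugate `g * a * g⁻¹` of `a` (library: `exists_sylow_le_mem_of_not_dvd_index` used in
`Cfsg/Agent/Lib/Helper12/TwoClassN.lean`, `Cfsg.Agent.Lib.Helper22.exists_sylow_mem`, Mathlib `IsPGroup.exists_le_sylow`,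
`MulAction.exists_smul_eq G P Q` for conjugacy of Sylow subgroups).  So `a' = g * a * g⁻¹` commutes with `b`, `cl a' = m`
(`cl_conj`), and by `Hyp.commute_conj_of_commute` every conjugate of `a'` commutes with `b`; `a = g⁻¹ * a' * g⁻¹⁻¹`.
The second statement is symmetric (use `Hyp.conj_eq_conj_centralizer'`: every conjugate of `b` is a `centralizer {a}`-conjugate).
-/

set_option autoImplicit false

namespace Cfsg.Agent.Lib.Helper24.CT

variable {G : Type*} [Group G] {m n : ℕ}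

namespace B06aux

/-- a primary element is conjugate into any subgroup of index prime to its prime -/
theorem exists_conj_mem_of_primary [Finite G] {t : ℕ} (ht : t.Prime) (C : Subgroup G)
    (hC : ¬ t ∣ C.index) (a : G) (hat : IsPrimary t a) : ∃ g : G, g⁻¹ * a * g ∈ C := by
  haveI : Fact t.Prime := ⟨ht⟩
  obtain ⟨k, hk⟩ := hat
  have hP : IsPGroup t (Subgroup.zpowers a) :=
    IsPGroup.of_card (n := k) (by rw [Nat.card_zpowers, hk])
  have hcard : ¬ t ∣ Nat.card (G ⧸ C) := by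
    rw [← Subgroup.index_eq_card]; exact hC
  obtain ⟨x, hx⟩ := hP.nonempty_fixed_point_of_prime_not_dvd_card (G ⧸ C) hcard
  obtain ⟨g, rfl⟩ := QuotientGroup.mk_surjective x
  refine ⟨g, ?_⟩
  have h1 := hx ⟨a, Subgroup.mem_zpowers a⟩
  have h2 : ((a * g : G) : G ⧸ C) = (g : G ⧸ C) := h1
  have h3 := QuotientGroup.eq.mp h2
  -- (a*g)⁻¹ * g ∈ C
  have h4 : g⁻¹ * a * g = ((a * g)⁻¹ * g)⁻¹ := by group
  rw [h4]
  exact C.inv_mem h3

end B06aux

theorem Hyp.commute_of_primary_not_dvd_n [Finite G] (h : Hyp G m n) {t : ℕ} (ht : t.Prime) (htn : ¬ t ∣ n)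
    {a b : G} (ha : cl a = m) (hat : IsPrimary t a) (hb : cl b = n) : Commute a b := by
  have hC : ¬ t ∣ (Subgroup.centralizer ({b} : Set G)).index := by
    rw [← cl_def, hb]; exact htn
  obtain ⟨g, hg⟩ := B06aux.exists_conj_mem_of_primary ht _ hC a hat
  have hcomm : Commute (g⁻¹ * a * g) b :=
    (Subgroup.mem_centralizer_singleton_iff.mp hg)
  have ha' : cl (g⁻¹ * a * g) = m := by
    have := cl_conj g⁻¹ a
    rw [inv_inv] at this
    rw [this, ha]
  have h1 := h.commute_conj_of_commute ha' hb hcomm g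
  have h2 : g * (g⁻¹ * a * g) * g⁻¹ = a := by group
  rw [h2] at h1
  exact h1

theorem Hyp.commute_of_primary_not_dvd_m [Finite G] (h : Hyp G m n) {u : ℕ} (hu : u.Prime) (hum : ¬ u ∣ m)
    {a b : G} (ha : cl a = m) (hb : cl b = n) (hbu : IsPrimary u b) : Commute a b := by
  have hC : ¬ u ∣ (Subgroup.centralizer ({a} : Set G)).index := by
    rw [← cl_def, ha]; exact hum
  obtain ⟨g, hg⟩ := B06aux.exists_conj_mem_of_primary hu _ hC b hbu
  -- b' = g⁻¹ b g commutes with a
  have hcomm : (g⁻¹ * b * g) * a = a * (g⁻¹ * b * g) :=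
    (Subgroup.mem_centralizer_singleton_iff.mp hg)
  have hb' : cl (g⁻¹ * b * g) = n := by
    have := cl_conj g⁻¹ b
    rw [inv_inv] at this
    rw [this, hb]
  obtain ⟨c, hc, hcb⟩ := h.conj_eq_conj_centralizer' ha hb' g
  have h2 : g * (g⁻¹ * b * g) * g⁻¹ = b := by group
  rw [h2] at hcb
  have hca : c * a = a * c := (Subgroup.mem_centralizer_singleton_iff.mp hc)
  have hca' : c⁻¹ * a = a * c⁻¹ := by
    calc c⁻¹ * a = c⁻¹ * (a * c) * c⁻¹ := by group
      _ = c⁻¹ * (c * a) * c⁻¹ := by rw [hca]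
      _ = a * c⁻¹ := by group
  show a * b = b * a
  rw [hcb]
  calc a * (c * (g⁻¹ * b * g) * c⁻¹) = (a * c) * (g⁻¹ * b * g) * c⁻¹ := by group
    _ = (c * a) * (g⁻¹ * b * g) * c⁻¹ := by rw [hca]
    _ = c * (a * (g⁻¹ * b * g)) * c⁻¹ := by group
    _ = c * ((g⁻¹ * b * g) * a) * c⁻¹ := by rw [hcomm]
    _ = c * (g⁻¹ * b * g) * (a * c⁻¹) := by group
    _ = c * (g⁻¹ * b * g) * (c⁻¹ * a) := by rw [hca']
    _ = c * (g⁻¹ * b * g) * c⁻¹ * a := by group

end Cfsg.Agent.Lib.Helper24.CT
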