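import Cfsg.Agent.Lib.Helper24.CT.Defs2
import Cfsg.Agent.Lib.Helper24.CT.B05
import Cfsg.Agent.Lib.Helper22.Jordan
import Cfsg.Agent.Lib.Helper22.Frobenius

/-!
# S4146 leaf A01: elements of order prime to `m₁ * n₁` are central

PAPER PROOF of `mem_center_of_primary`.  `p ∤ m₁ * n₁`, so `p ∤ cl y` for every `y : G` (`cl y ∈ {1, m₁, n₁, m₁ n₁}`).  Hence every
`y` is centralized by a Sylow `p`-subgroup, i.e. lies in a conjugate of `C_G(P)` for a fixed Sylow `p`-subgroup `P`; a finite group is not the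
union of the conjugates of a proper subgroup, so `C_G(P) = ⊤`, `P ≤ center G`, and `g` lies in a conjugate of `P`.
This is EXACTLY the proof of `Cfsg.Agent.Lib.Helper12.TwoClassN.CS.commute_of_not_dvd` (file `Cfsg/Agent/Lib/Helper12/TwoClassN.lean`, with `N = ⊤`);
copy it (it uses `exists_forall_conj_not_mem`, `exists_sylow_le_mem_of_not_dvd_index` from its imports).
Alternative: `Cfsg.Agent.S4035.result` (if `p ∤` all class sizes of `p'`-elements then `G = P × H`).
`mem_center_of_coprime`: if `g ∉ center G`, `exists_primary_not_mem (center G)` gives a prime `p` and a `p`-primary power `a ∉ center G` of `g`;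
`a ≠ 1` so `p ∣ orderOf a ∣ orderOf g`, so `p ∤ m₁ * n₁`; contradiction with the first statement.
-/

set_option autoImplicit false

namespace Cfsg.Agent.Lib.Helper24.CT

variable {G : Type*} [Group G] {m₁ n₁ : ℕ}

theorem Hyp0.mem_center_of_primary [Finite G] (h : Hyp0 G m₁ n₁) {p : ℕ} (hp : p.Prime)
    (hpm : ¬ p ∣ m₁ * n₁) {g : G} (hg : IsPrimary p g) : g ∈ Subgroup.center G := by
  have : Fact p.Prime := ⟨hp⟩
  obtain ⟨k, hk⟩ := hg
  have hgp : IsPGroup p ↥(Subgroup.zpowers g) :=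
    IsPGroup.of_card (n := k) (by rw [Nat.card_zpowers, hk])
  obtain ⟨P, hP⟩ := hgp.exists_le_sylow
  have hnd : ∀ y : G, ¬ p ∣ (Subgroup.centralizer ({y} : Set G)).index := by
    intro y hd
    have hcs := h.cs y
    rw [cl_def] at hcs
    rcases hcs with h1 | h1 | h1 | h1 <;> rw [h1] at hd
    · exact hp.one_lt.ne' (Nat.dvd_one.1 hd)
    · exact hpm (dvd_mul_of_dvd_left hd _)
    · exact hpm (dvd_mul_of_dvd_right hd _)
    · exact hpm hd
  have hC : Subgroup.centralizer ((P : Subgroup G) : Set G) = ⊤ := by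
    by_contra hH
    obtain ⟨n₀, hn₀⟩ := Cfsg.Agent.Lib.Helper22.exists_forall_conj_not_mem _ hH
    obtain ⟨S', hS'le, -⟩ := Cfsg.Agent.Lib.Helper22.exists_sylow_le_mem_of_not_dvd_index
      (Subgroup.centralizer ({n₀} : Set G)) (hnd n₀) 1 (Subgroup.one_mem _) 0 (by simp)
    obtain ⟨x, rfl⟩ := MulAction.exists_smul_eq G P S'
    apply hn₀ x
    rw [Subgroup.mem_centralizer_iff]
    intro w hw
    have h1 : x * w * x⁻¹ ∈ ((x • P : Sylow p G) : Subgroup G) := by
      rw [Sylow.coe_subgroup_smul, Cfsg.Agent.Lib.Helper22.mem_conj_smul_iff]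
      exact ⟨w, hw, rfl⟩
    have h3 : (x * w * x⁻¹) * n₀ = n₀ * (x * w * x⁻¹) :=
      Subgroup.mem_centralizer_singleton_iff.mp (hS'le h1)
    calc w * (x⁻¹ * n₀ * x) = x⁻¹ * ((x * w * x⁻¹) * n₀) * x := by group
      _ = x⁻¹ * (n₀ * (x * w * x⁻¹)) * x := by rw [h3]
      _ = x⁻¹ * n₀ * x * w := by group
  rw [Subgroup.mem_center_iff]
  intro z
  have hz : z ∈ Subgroup.centralizer ((P : Subgroup G) : Set G) := by rw [hC]; trivial
  exact (Subgroup.mem_centralizer_iff.1 hz g (hP (Subgroup.mem_zpowers g))).symm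

theorem Hyp0.mem_center_of_coprime [Finite G] (h : Hyp0 G m₁ n₁) {g : G}
    (hg : (orderOf g).Coprime (m₁ * n₁)) : g ∈ Subgroup.center G := by
  by_contra hgc
  obtain ⟨p, hp, a, ha, hpa, hac⟩ := exists_primary_not_mem (Subgroup.center G) hgc
  have ha1 : a ≠ 1 := fun h1 => hac (h1 ▸ Subgroup.one_mem _)
  obtain ⟨k, hk⟩ := hpa
  have hk0 : k ≠ 0 := by
    intro h0
    rw [h0, pow_zero, orderOf_eq_one_iff] at hk
    exact ha1 hk
  have hpa' : p ∣ orderOf a := by
    rw [hk]
    exact dvd_pow_self p hk0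
  have hag : orderOf a ∣ orderOf g := by
    obtain ⟨i, rfl⟩ := Subgroup.mem_zpowers_iff.1 ha
    exact orderOf_dvd_of_pow_eq_one (by rw [← zpow_natCast, ← zpow_mul, mul_comm, zpow_mul,
      zpow_natCast, pow_orderOf_eq_one, one_zpow])
  have hpm : ¬ p ∣ m₁ * n₁ := by
    intro hd
    have := Nat.Coprime.eq_one_of_dvd (hg.coprime_dvd_left (hpa'.trans hag)) hd
    exact hp.one_lt.ne' this
  exact hac (h.mem_center_of_primary hp hpm ⟨k, hk⟩)

end Cfsg.Agent.Lib.Helper24.CT
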