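import Cfsg.Agent.Lib.Helper24.CT.Defs

/-!
# S4146 leaf A02: a normal `p`-subgroup lies in every subgroup of index prime to `p` (pure group theory)

PAPER PROOF.  `K, D ≤ H`, `K` normalized by `H`, `K` a `p`-group, `p ∤ |H : D|`.  `K D` is a subgroup of `H` (as `D` normalizes `K`), and
`|K D : D| = |K : K ⊓ D|` is a power of `p` dividing `|H : D|`, hence `1`, so `K ≤ D`.
Lean hints: work inside `↥H` (`K.subgroupOf H` is normal there) or directly: `Subgroup.relIndex_dvd_of_le_left`/`Subgroup.relIndex_inf_mul_relIndex`,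
`Subgroup.relIndex_sup_left`/`Subgroup.relIndex_sup_right` (need normality), `IsPGroup.index`/`IsPGroup.card_eq_or_dvd`,
`(K ⊓ D).relIndex K` is a power of `p` (`IsPGroup` + `Subgroup.relIndex` = index in `↥K`: `IsPGroup.index (K := …)`),
`Subgroup.relIndex_eq_one`.  Alternative: Sylow theory in `↥H`: `D.subgroupOf H` contains a Sylow `p`-subgroup of `↥H` and a normal `p`-subgroup lies in every Sylow
(`Cfsg.Agent.Lib.Helper1.le_pCore`, `Cfsg.Agent.Lib.Helper16.pCore_le_sylow`).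
-/

set_option autoImplicit false

namespace Cfsg.Agent.Lib.Helper24.CT

variable {G : Type*} [Group G]

theorem le_of_normal_pgroup_of_not_dvd_relIndex [Finite G] {p : ℕ} [Fact p.Prime] {K D H : Subgroup G}
    (hKH : K ≤ H) (hDH : D ≤ H) (hnorm : ∀ h ∈ H, ∀ k ∈ K, h * k * h⁻¹ ∈ K) (hK : IsPGroup p K)
    (hidx : ¬ p ∣ D.relIndex H) : K ≤ D := by
  classical
  let φ : ↥K →* ↥H := Subgroup.inclusion hKH
  letI : MulAction ↥K (↥H ⧸ D.subgroupOf H) := MulAction.compHom _ φ
  have hcard : ¬ p ∣ Nat.card (↥H ⧸ D.subgroupOf H) := by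
    rw [← Subgroup.index_eq_card]; exact hidx
  obtain ⟨q, hq⟩ := hK.nonempty_fixed_point_of_prime_not_dvd_card (↥H ⧸ D.subgroupOf H) hcard
  rw [MulAction.mem_fixedPoints] at hq
  induction q using QuotientGroup.induction_on with
  | H h =>
    intro k hk
    have hk' : (h : G) * k * (h : G)⁻¹ ∈ K := hnorm h h.2 k hk
    have e := hq ⟨_, hk'⟩
    change ((φ ⟨_, hk'⟩ * h : ↥H) : ↥H ⧸ D.subgroupOf H) = (h : ↥H ⧸ D.subgroupOf H) at e
    rw [QuotientGroup.eq, Subgroup.mem_subgroupOf] at e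
    have e2 : (((φ ⟨_, hk'⟩ * h)⁻¹ * h : ↥H) : G) = k⁻¹ := by
      simp [φ]
    rw [e2] at e
    exact (D.inv_mem_iff).mp e

end Cfsg.Agent.Lib.Helper24.CT
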