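import Cfsg.Agent.Lib.Helper24.CT.Defs

/-!
# S4146 leaf B01: elementary facts on `cl`

RECIPE.  `cl_eq_one_iff`: `Subgroup.index_eq_one`, `Subgroup.centralizer_eq_top_iff_subset`,
`Set.singleton_subset_iff` (see `Cfsg.Agent.Lib.Helper12.TwoClassN.CS.index_eq` for the same two rewrites).
`cl_conj`: the centralizer of `h * g * h⁻¹` is the image of the centralizer of `g` under `MulAut.conj h`
(`Subgroup.index_map_equiv` / `Subgroup.index_map_of_bijective`); or use
`Cfsg.Agent.Lib.Helper22.index_centralizer_eq_ncard_carrier` (file `Lib/Helper22/Conj.lean`): the class size is the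
cardinality of `(ConjClasses.mk g).carrier` and conjugate elements have the same `ConjClasses.mk`.
`cl_inv`: `Subgroup.centralizer {g⁻¹} = Subgroup.centralizer {g}` (ext; `Subgroup.mem_centralizer_singleton_iff`).
`cl_dvd_of_centralizer_le`: `Subgroup.index_dvd_of_le`.
`cl_pow_dvd`: `Subgroup.centralizer {g} ≤ Subgroup.centralizer {g ^ k}` (an element commuting with `g` commutes with `g ^ k`:
`Commute.pow_right`), then the previous lemma.  Same for `zpowers`.
-/

set_option autoImplicit false

namespace Cfsg.Agent.Lib.Helper24.CT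

namespace B01aux

variable {G : Type*} [Group G]

theorem mem_cent_iff_commute (x g : G) :
    x ∈ Subgroup.centralizer ({g} : Set G) ↔ Commute x g := by
  rw [Subgroup.mem_centralizer_singleton_iff]
  exact Iff.rfl

end B01aux

variable {G : Type*} [Group G]

theorem cl_eq_one_iff (g : G) : cl g = 1 ↔ g ∈ Subgroup.center G := by
  rw [cl_def, Subgroup.index_eq_one, Subgroup.centralizer_eq_top_iff_subset,
    Set.singleton_subset_iff]
  rfl

theorem cl_conj (h g : G) : cl (h * g * h⁻¹) = cl g := by
  have e : Subgroup.centralizer ({h * g * h⁻¹} : Set G) =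
      (Subgroup.centralizer ({g} : Set G)).map ((MulAut.conj h : G ≃* G) : G →* G) := by
    ext x
    rw [Subgroup.mem_map, B01aux.mem_cent_iff_commute]
    constructor
    · intro hx
      refine ⟨h⁻¹ * x * h, ?_, ?_⟩
      · rw [B01aux.mem_cent_iff_commute]
        have h1 : Commute (h * (h⁻¹ * x * h) * h⁻¹) (h * g * h⁻¹) := by
          have e1 : h * (h⁻¹ * x * h) * h⁻¹ = x := by group
          rw [e1]
          exact hx
        exact (Commute.conj_iff h).mp h1
      · simp only [MonoidHom.coe_coe, MulAut.conj_apply]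
        group
    · rintro ⟨y, hy, rfl⟩
      rw [B01aux.mem_cent_iff_commute] at hy
      simp only [MonoidHom.coe_coe, MulAut.conj_apply]
      exact (Commute.conj_iff h).mpr hy
  rw [cl_def, cl_def, e]
  exact Subgroup.index_map_equiv _ (MulAut.conj h)

theorem cl_inv (g : G) : cl g⁻¹ = cl g := by
  have e : Subgroup.centralizer ({g⁻¹} : Set G) = Subgroup.centralizer ({g} : Set G) := by
    ext x
    rw [B01aux.mem_cent_iff_commute, B01aux.mem_cent_iff_commute]
    exact Commute.inv_right_iff
  rw [cl_def, cl_def, e]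

theorem cl_dvd_of_centralizer_le [Finite G] {x y : G}
    (hle : Subgroup.centralizer ({x} : Set G) ≤ Subgroup.centralizer ({y} : Set G)) : cl y ∣ cl x := by
  exact Subgroup.index_dvd_of_le hle

theorem centralizer_le_of_mem_zpowers' {g a : G} (ha : a ∈ Subgroup.zpowers g) :
    Subgroup.centralizer ({g} : Set G) ≤ Subgroup.centralizer ({a} : Set G) := by
  obtain ⟨k, rfl⟩ := Subgroup.mem_zpowers_iff.mp ha
  intro x hx
  rw [B01aux.mem_cent_iff_commute] at hx ⊢
  exact hx.zpow_right k

theorem cl_dvd_of_mem_zpowers [Finite G] {g a : G} (ha : a ∈ Subgroup.zpowers g) : cl a ∣ cl g := by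
  exact cl_dvd_of_centralizer_le (centralizer_le_of_mem_zpowers' ha)

end Cfsg.Agent.Lib.Helper24.CT
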