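import Cfsg.Agent.Lib.Helper24.CT.Defs2
import Cfsg.Agent.Lib.Helper24.CT.B01

/-!
# S4146 leaf A03: centralizers of elements of the maximal class size `m₁ * n₁`

PAPER PROOF.  `cl x = m₁ * n₁`, `v` commutes with `x`, coprime orders.  Then `centralizer {x * v} = centralizer {x} ⊓ centralizer {v}`
(`Cfsg.Agent.S4127.centralizer_mul_of_coprime` in `Cfsg/Agent/S4127.lean`, or `Cfsg.Agent.Lib.Helper12.TwoClassN.CS.centralizer_le_of_coprime`'s
ingredients `mem_zpowers_mul_of_coprime`, `centralizer_le_of_mem_zpowers` from `Cfsg.Agent.Lib.Helper22.TwoClassSizes`: both `x` and `v` are powers of `x * v`).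
`cl (x * v) ∣ m₁ * n₁` (all four sizes divide `m₁ * n₁`) and `centralizer {x * v} ≤ centralizer {x}`, so `m₁ * n₁ = cl x ∣ cl (x * v)`; hence equal indices and
`centralizer {x * v} = centralizer {x}` (`Cfsg.Agent.Lib.Helper12.TwoClassN.eq_of_le_of_index_eq`), so `centralizer {x} ≤ centralizer {v}`.
-/

set_option autoImplicit false

namespace Cfsg.Agent.Lib.Helper24.CT

variable {G : Type*} [Group G] {m₁ n₁ : ℕ}

namespace A03

/-- centralizer of a product of commuting elements of coprime orders -/
theorem centralizer_mul {x y : G} (hc : Commute x y) (hcop : (orderOf x).Coprime (orderOf y)) :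
    Subgroup.centralizer ({x * y} : Set G)
      = Subgroup.centralizer ({x} : Set G) ⊓ Subgroup.centralizer ({y} : Set G) := by
  apply le_antisymm
  · intro g hg
    rw [Subgroup.mem_centralizer_singleton_iff] at hg
    have hg' : Commute (x * y) g := (show Commute g (x * y) from hg).symm
    obtain ⟨m, hm⟩ := exists_pow_eq_self_of_coprime (x := x) hcop.symm
    obtain ⟨m', hm'⟩ := exists_pow_eq_self_of_coprime (x := y) hcop
    have hx : x = ((x * y) ^ orderOf y) ^ m := by
      rw [hc.mul_pow, pow_orderOf_eq_one, mul_one, hm]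
    have hy : y = ((x * y) ^ orderOf x) ^ m' := by
      rw [hc.mul_pow, pow_orderOf_eq_one, one_mul, hm']
    rw [Subgroup.mem_inf, Subgroup.mem_centralizer_singleton_iff,
      Subgroup.mem_centralizer_singleton_iff]
    constructor
    · have : Commute x g := by
        rw [hx]; exact (hg'.pow_left _).pow_left _
      exact this.symm.eq
    · have : Commute y g := by
        rw [hy]; exact (hg'.pow_left _).pow_left _
      exact this.symm.eq
  · intro g hg
    rw [Subgroup.mem_inf, Subgroup.mem_centralizer_singleton_iff,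
      Subgroup.mem_centralizer_singleton_iff] at hg
    rw [Subgroup.mem_centralizer_singleton_iff]
    have h1 : Commute g x := hg.1
    have h2 : Commute g y := hg.2
    exact (h1.mul_right h2).eq

theorem eq_of_le_of_index_eq [Finite G] {H K : Subgroup G} (hle : H ≤ K)
    (hi : H.index = K.index) : H = K := by
  have h1 := Subgroup.relIndex_mul_index hle
  rw [hi] at h1
  have hK : K.index ≠ 0 := Subgroup.index_ne_zero_of_finite
  have h2 : H.relIndex K = 1 := by
    have h3 : H.relIndex K * K.index = 1 * K.index := by rw [h1, one_mul]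
    exact Nat.eq_of_mul_eq_mul_right (Nat.pos_of_ne_zero hK) h3
  exact le_antisymm hle (Subgroup.relIndex_eq_one.1 h2)

end A03

theorem Hyp0.centralizer_le_of_coprime_of_cl_max [Finite G] (h : Hyp0 G m₁ n₁) {x v : G}
    (hx : cl x = m₁ * n₁) (hxv : Commute x v) (hcop : (orderOf x).Coprime (orderOf v)) :
    Subgroup.centralizer ({x} : Set G) ≤ Subgroup.centralizer ({v} : Set G) := by
  have hC := A03.centralizer_mul hxv hcop
  have hle : Subgroup.centralizer ({x * v} : Set G) ≤ Subgroup.centralizer ({x} : Set G) := by
    rw [hC]; exact inf_le_left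
  have hd1 : cl x ∣ cl (x * v) := cl_dvd_of_centralizer_le hle
  have hd2 : cl (x * v) ∣ cl x := by
    rw [hx]
    rcases h.cs (x * v) with h1 | h1 | h1 | h1 <;> rw [h1]
    · exact one_dvd _
    · exact dvd_mul_right _ _
    · exact dvd_mul_left _ _
  have heq : Subgroup.centralizer ({x * v} : Set G) = Subgroup.centralizer ({x} : Set G) :=
    A03.eq_of_le_of_index_eq hle (Nat.dvd_antisymm hd2 hd1)
  rw [← heq, hC]
  exact inf_le_right

/-- general: `cl (a * y) = cl a * relIndex` for commuting elements of coprime orders -/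
theorem cl_mul_of_coprime [Finite G] {a y : G} (hay : Commute a y)
    (hcop : (orderOf a).Coprime (orderOf y)) :
    cl (a * y) = (Subgroup.centralizer ({a} : Set G) ⊓ Subgroup.centralizer ({y} : Set G)).relIndex
      (Subgroup.centralizer ({a} : Set G)) * cl a := by
  have hC := A03.centralizer_mul hay hcop
  rw [cl_def, cl_def, hC]
  exact (Subgroup.relIndex_mul_index inf_le_left).symm

end Cfsg.Agent.Lib.Helper24.CT
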