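import Cfsg.Agent.Lib.Helper24.CT.A03

/-!
# S4146 leaf A04: Sylow facts for centralizers

`exists_conj_mem_centralizer`: `x` a `q`-element, `q ∤ cl b`.  `centralizer {b}` has index prime to `q`, so it contains a Sylow `q`-subgroup of `G`, and `x` lies in some Sylow
`q`-subgroup; Sylow subgroups are conjugate, so `g⁻¹ * x * g ∈ centralizer {b}` for some `g`, i.e. `x` commutes with `g * b * g⁻¹`.
Library: `exists_sylow_le_mem_of_not_dvd_index` (used in `Cfsg/Agent/Lib/Helper12/TwoClassN.lean`), `Cfsg.Agent.Lib.Helper22.exists_sylow_mem` (`PElt.lean`),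
`MulAction.exists_smul_eq G P Q`, `Sylow.coe_subgroup_smul`, `Subgroup.mem_pointwise_smul_iff_inv_smul_mem`.
`exists_sylow_le_centralizer`: `r ∤ cl a` gives a Sylow `r`-subgroup inside `centralizer {a}` (same library lemma).
`not_dvd_cl_of_forall_commute`: if all `q`-elements commute with `a` then a (any) Sylow `q`-subgroup `Q` lies in `centralizer {a}`
(elements of `Q` are `q`-elements: `IsPGroup.iff_orderOf`), so `cl a ∣ Q.index` (`Subgroup.index_dvd_of_le`) and `q ∤ Q.index` (`Sylow.not_dvd_index`).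
-/

set_option autoImplicit false

namespace Cfsg.Agent.Lib.Helper24.CT

variable {G : Type*} [Group G]

namespace A04

theorem sylow_le_cent [Finite G] {r : ℕ} [hr : Fact r.Prime] {a : G}
    (ha : ¬ r ∣ cl a) : ∃ R : Sylow r G, (R : Subgroup G) ≤ Subgroup.centralizer ({a} : Set G) := by
  set C : Subgroup G := Subgroup.centralizer ({a} : Set G) with hC
  let R0 : Sylow r ↥C := default
  have hR' : IsPGroup r ((R0 : Subgroup ↥C).map C.subtype) := R0.2.map C.subtype
  have hidx : ¬ r ∣ ((R0 : Subgroup ↥C).map C.subtype).index := by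
    rw [Subgroup.index_map_subtype]
    intro h
    rcases (Nat.Prime.dvd_mul hr.out).mp h with h' | h'
    · exact R0.not_dvd_index h'
    · exact ha h'
  exact ⟨hR'.toSylow hidx, Subgroup.map_subtype_le _⟩

theorem conj_sylow_le_cent [Finite G] {q : ℕ} [Fact q.Prime] {b : G}
    (hb : ¬ q ∣ cl b) (Q : Sylow q G) :
    ∃ g : G, (Q : Subgroup G) ≤ Subgroup.centralizer ({g * b * g⁻¹} : Set G) := by
  obtain ⟨R, hR⟩ := sylow_le_cent (r := q) hb
  obtain ⟨g, hg⟩ := MulAction.exists_smul_eq G R Q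
  refine ⟨g, ?_⟩
  intro y hy
  have hy' : y ∈ ((g • R : Sylow q G) : Subgroup G) := by rw [hg]; exact hy
  rw [Sylow.coe_subgroup_smul, Subgroup.mem_pointwise_smul_iff_inv_smul_mem] at hy'
  have h1 : g⁻¹ * y * g ∈ (R : Subgroup G) := by
    simpa [MulAut.smul_def, MulAut.conj_apply] using hy'
  have h2 := Subgroup.mem_centralizer_singleton_iff.mp (hR h1)
  rw [Subgroup.mem_centralizer_singleton_iff]
  calc y * (g * b * g⁻¹) = g * ((g⁻¹ * y * g) * b) * g⁻¹ := by group
    _ = g * (b * (g⁻¹ * y * g)) * g⁻¹ := by rw [h2]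
    _ = g * b * g⁻¹ * y := by group

end A04

theorem exists_conj_commute_of_not_dvd_cl [Finite G] {q : ℕ} (hq : q.Prime) {x b : G}
    (hx : IsPrimary q x) (hb : ¬ q ∣ cl b) : ∃ g : G, Commute x (g * b * g⁻¹) := by
  haveI : Fact q.Prime := ⟨hq⟩
  obtain ⟨k, hk⟩ := hx
  have h1 : IsPGroup q (Subgroup.zpowers x) :=
    IsPGroup.of_card (n := k) (by rw [Nat.card_zpowers, hk])
  obtain ⟨Q, hQ⟩ := h1.exists_le_sylow
  obtain ⟨g, hg⟩ := A04.conj_sylow_le_cent hb Q
  refine ⟨g, ?_⟩
  exact Subgroup.mem_centralizer_singleton_iff.mp (hg (hQ (Subgroup.mem_zpowers x)))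

theorem exists_sylow_le_centralizer_of_not_dvd_cl [Finite G] {r : ℕ} [Fact r.Prime] {a : G}
    (ha : ¬ r ∣ cl a) : ∃ R : Sylow r G, (R : Subgroup G) ≤ Subgroup.centralizer ({a} : Set G) := by
  exact A04.sylow_le_cent ha

theorem not_dvd_cl_of_forall_commute [Finite G] {q : ℕ} (hq : q.Prime) {a : G}
    (h : ∀ x : G, IsPrimary q x → Commute x a) : ¬ q ∣ cl a := by
  haveI : Fact q.Prime := ⟨hq⟩
  let Q : Sylow q G := default
  have hle : (Q : Subgroup G) ≤ Subgroup.centralizer ({a} : Set G) := by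
    intro y hy
    rw [Subgroup.mem_centralizer_singleton_iff]
    obtain ⟨k, hk⟩ := (IsPGroup.iff_orderOf.mp Q.2) ⟨y, hy⟩
    have hk' : orderOf y = q ^ k := by rw [← hk, Subgroup.orderOf_mk]
    exact (h y ⟨k, hk'⟩).eq
  intro hdvd
  have h1 : cl a ∣ (Q : Subgroup G).index := Subgroup.index_dvd_of_le hle
  exact Q.not_dvd_index (dvd_trans hdvd h1)

/-- a `q`-element `b` with `q ∤ cl b`: every Sylow `q`-subgroup centralizes a conjugate of `b` -/
theorem exists_conj_sylow_le_centralizer [Finite G] {q : ℕ} [Fact q.Prime] {b : G}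
    (hbq : IsPrimary q b) (hb : ¬ q ∣ cl b) (Q : Sylow q G) :
    ∃ g : G, (Q : Subgroup G) ≤ Subgroup.centralizer ({g * b * g⁻¹} : Set G) := by
  exact A04.conj_sylow_le_cent hb Q

end Cfsg.Agent.Lib.Helper24.CT
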