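import Cfsg.Agent.Lib.Helper24.CT.A04
import Cfsg.Agent.Lib.Helper17.CTA05

/-!
# S4146 leaf A05: for a `q`-element `x` of maximal class size, a conjugate `y` of a given primary `b` (with `q ∤ cl b`) has `C(x) ≤ C(y)`

Two cases.
`exists_centralizer_le_of_ne` (`b` a `u`-element, `u ≠ q`):  by `exists_conj_commute_of_not_dvd_cl` some conjugate `y = g * b * g⁻¹` commutes with `x`; orders are coprime
(`orderOf y = orderOf b = u ^ j`, `orderOf x = q ^ k`, `Nat.coprime_pow_primes`); conclude by `Hyp0.centralizer_le_of_coprime_of_cl_max`.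
`exists_centralizer_le_of_eq` (`b` a `q`-element):  PAPER PROOF.  Let `C = centralizer {x}`.  Choose a Sylow `q`-subgroup `P` of `↥C` containing `⟨x, _⟩`
(`IsPGroup.exists_le_sylow` applied to `zpowers`), `P' = P.map C.subtype ≤ Q` for some `Q : Sylow q G` (`IsPGroup.exists_le_sylow`), and by
`exists_conj_sylow_le_centralizer` a conjugate `y` of `b` with `Q ≤ centralizer {y}`.  Then `x ∈ P' ≤ Q` commutes with `y`, so `y ∈ C`.
Claim `(C ⊓ centralizer {y}).relIndex C = 1` (then `C ≤ centralizer {y}` by `Subgroup.relIndex_eq_one`): no prime `p` divides it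
(`Nat.eq_one_of_not_exists_prime_dvd`-style: `Nat.eq_one_iff_not_exists_prime_dvd`).  `p = q`: `P' ≤ C ⊓ centralizer {y}` and `q ∤ |C : P'|` (`Sylow.not_dvd_index` in `↥C`).
`p ≠ q`: a Sylow `p`-subgroup of `↥C` consists of `p`-elements `v`, of order prime to `orderOf x`, commuting with `x`, so `C ≤ centralizer {v}` by
`Hyp0.centralizer_le_of_coprime_of_cl_max`; as `y ∈ C`, `v` commutes with `y`; so this Sylow subgroup lies in `C ⊓ centralizer {y}` and `p ∤` relIndex.
(Hint: for `S ≤ D ≤ C`, `D.relIndex C ∣ S.relIndex C`: `Subgroup.relIndex_dvd_of_le_left`; for `S : Sylow p ↥C`, `(S.map C.subtype).relIndex C = S.index`.)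
-/

set_option autoImplicit false

namespace Cfsg.Agent.Lib.Helper24.CT

variable {G : Type*} [Group G] {m₁ n₁ : ℕ}

theorem Hyp0.exists_centralizer_le_of_ne [Finite G] (h : Hyp0 G m₁ n₁) {q u : ℕ} (hq : q.Prime)
    (hu : u.Prime) (huq : u ≠ q) {x b : G} (hx : cl x = m₁ * n₁) (hxq : IsPrimary q x)
    (hbu : IsPrimary u b) (hb : ¬ q ∣ cl b) :
    ∃ g : G, Subgroup.centralizer ({x} : Set G) ≤ Subgroup.centralizer ({g * b * g⁻¹} : Set G) := by
  exact Cfsg.Agent.Lib.Helper17.CTA05.exists_centralizer_le_of_ne h hq hu huq hx hxq hbu hb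

theorem Hyp0.exists_centralizer_le_of_eq [Finite G] (h : Hyp0 G m₁ n₁) {q : ℕ} (hq : q.Prime)
    {x b : G} (hx : cl x = m₁ * n₁) (hxq : IsPrimary q x)
    (hbq : IsPrimary q b) (hb : ¬ q ∣ cl b) :
    ∃ g : G, Subgroup.centralizer ({x} : Set G) ≤ Subgroup.centralizer ({g * b * g⁻¹} : Set G) := by
  exact Cfsg.Agent.Lib.Helper17.CTA05.exists_centralizer_le_of_eq h hq hx hxq hbq hb

/-- both cases together -/
theorem Hyp0.exists_centralizer_le [Finite G] (h : Hyp0 G m₁ n₁) {q u : ℕ} (hq : q.Prime)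
    (hu : u.Prime) {x b : G} (hx : cl x = m₁ * n₁) (hxq : IsPrimary q x)
    (hbu : IsPrimary u b) (hb : ¬ q ∣ cl b) :
    ∃ g : G, Subgroup.centralizer ({x} : Set G) ≤ Subgroup.centralizer ({g * b * g⁻¹} : Set G) := by
  by_cases huq : u = q
  · subst huq
    exact h.exists_centralizer_le_of_eq hq hx hxq hbu hb
  · exact h.exists_centralizer_le_of_ne hq hu huq hx hxq hbu hb

end Cfsg.Agent.Lib.Helper24.CT
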