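import Cfsg.Agent.Lib.Helper24.CT.A02
import Cfsg.Agent.Lib.Helper24.CT.B02

/-!
# S4146 leaf A06: the Sylow-order trick

PAPER PROOF.  `cl x = m * n`, `cl y = n`, `centralizer {x} ≤ centralizer {y}`: then `(centralizer {x}).relIndex (centralizer {y}) = m`
(`Subgroup.relIndex_mul_index`: `relIndex * n = m * n`, cancel `n > 0`).  `K` is a normal `t`-subgroup of `G` contained in `centralizer {y}`, `t ∤ m`:
apply `le_of_normal_pgroup_of_not_dvd_relIndex` with `H = centralizer {y}`, `D = centralizer {x}`.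
-/

set_option autoImplicit false

namespace Cfsg.Agent.Lib.Helper24.CT

variable {G : Type*} [Group G] {m n : ℕ}

theorem Hyp.le_centralizer_of_centralizer_le [Finite G] (h : Hyp G m n) {x y : G} (hx : cl x = m * n)
    (hy : cl y = n)
    (hle : Subgroup.centralizer ({x} : Set G) ≤ Subgroup.centralizer ({y} : Set G))
    {t : ℕ} [Fact t.Prime] (htm : ¬ t ∣ m) {K : Subgroup G} [K.Normal] (hK : IsPGroup t K)
    (hKy : K ≤ Subgroup.centralizer ({y} : Set G)) : K ≤ Subgroup.centralizer ({x} : Set G) := by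
  have hn0 : 0 < n := lt_trans (lt_trans Nat.zero_lt_one h.one_lt_m) h.lt
  have hrel : (Subgroup.centralizer ({x} : Set G)).relIndex (Subgroup.centralizer ({y} : Set G)) = m := by
    have h1 := Subgroup.relIndex_mul_index hle
    rw [← cl_def, ← cl_def, hx, hy] at h1
    exact Nat.eq_of_mul_eq_mul_right hn0 h1
  apply le_of_normal_pgroup_of_not_dvd_relIndex (p := t) hKy hle _ hK
  · rw [hrel]; exact htm
  · intro g _ k hk
    exact ‹K.Normal›.conj_mem k hk g

end Cfsg.Agent.Lib.Helper24.CT
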