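import Cfsg.Agent.Lib.Helper24.CT.B03
import Cfsg.Agent.Lib.Helper12.TwoClassN

/-!
# S4146 leaf A07: a `t`-element of `A` with `t ∤ m` is central in `A`, and its normal closure is a `t`-group inside `A`

`commute_of_mem_A`: this is `Cfsg.Agent.Lib.Helper12.TwoClassN.CS.commute_of_not_dvd` applied to `N = A G m` (normal: `A_normal`; `CS (A G m) m` is `Hyp.cs_A`);
`IsPrimary t a` gives `a ^ t ^ k = 1` (`pow_orderOf_eq_one`).
`isPGroup_normalClosure`: every conjugate `g * a * g⁻¹` lies in `A` (normal), has order `t ^ k`, and is central in `A` by the first statement.  Show by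
`Subgroup.closure_induction` (on `Subgroup.normalClosure {a} = Subgroup.closure (Group.conjugatesOfSet {a})`) that every element `z` of the normal closure satisfies
`z ∈ A G m ∧ (∀ w ∈ A G m, Commute w z) ∧ z ^ t ^ k = 1` (products: `Commute.mul_pow`; inverses: `inv_pow`).  Then `IsPGroup t`: `IsPGroup.iff_orderOf`/definition
(`∀ z, ∃ j, z ^ t ^ j = 1`).
-/

set_option autoImplicit false

namespace Cfsg.Agent.Lib.Helper24.CT

variable {G : Type*} [Group G] {m n : ℕ}

theorem Hyp.commute_of_mem_A [Finite G] (h : Hyp G m n) {t : ℕ} (ht : t.Prime) (htm : ¬ t ∣ m) {a : G}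
    (haA : a ∈ A G m) (hat : IsPrimary t a) : ∀ w ∈ A G m, Commute w a := by
  haveI : Fact t.Prime := ⟨ht⟩
  obtain ⟨k, hk⟩ := hat
  have hcs : Cfsg.Agent.Lib.Helper12.TwoClassN.CS (A G m) m := h.cs_A
  exact hcs.commute_of_not_dvd htm haA ⟨k, by rw [← hk]; exact pow_orderOf_eq_one a⟩

theorem Hyp.isPGroup_normalClosure [Finite G] (h : Hyp G m n) {t : ℕ} (ht : t.Prime) (htm : ¬ t ∣ m) {a : G}
    (haA : a ∈ A G m) (hat : IsPrimary t a) :
    IsPGroup t (Subgroup.normalClosure ({a} : Set G)) ∧ Subgroup.normalClosure ({a} : Set G) ≤ A G m := by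
  obtain ⟨k, hk⟩ := hat
  have hak : a ^ t ^ k = 1 := by rw [← hk]; exact pow_orderOf_eq_one a
  have key : ∀ z ∈ Subgroup.normalClosure ({a} : Set G),
      z ∈ A G m ∧ (∀ w ∈ A G m, Commute w z) ∧ z ^ t ^ k = 1 := by
    intro z hz
    unfold Subgroup.normalClosure at hz
    induction hz using Subgroup.closure_induction with
    | mem x hx =>
      obtain ⟨b, hb, hbx⟩ := Group.mem_conjugatesOfSet_iff.mp hx
      rw [Set.mem_singleton_iff] at hb
      subst hb
      obtain ⟨g, hg⟩ := isConj_iff.mp hbx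
      subst hg
      have hxA : g * b * g⁻¹ ∈ A G m := (A_normal m).conj_mem b haA g
      have hxk : (g * b * g⁻¹) ^ t ^ k = 1 := by
        rw [conj_pow, hak]; group
      have hxt : IsPrimary t (g * b * g⁻¹) := by
        obtain ⟨j, -, hj⟩ := (Nat.dvd_prime_pow ht).mp (orderOf_dvd_of_pow_eq_one hxk)
        exact ⟨j, hj⟩
      exact ⟨hxA, h.commute_of_mem_A ht htm hxA hxt, hxk⟩
    | one =>
      exact ⟨Subgroup.one_mem _, fun w _ => Commute.one_right w, one_pow _⟩
    | mul x y _ _ hx hy =>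
      refine ⟨Subgroup.mul_mem _ hx.1 hy.1, fun w hw => (hx.2.1 w hw).mul_right (hy.2.1 w hw), ?_⟩
      have hxy : Commute x y := hy.2.1 x hx.1
      rw [hxy.mul_pow, hx.2.2, hy.2.2, one_mul]
    | inv x _ hx =>
      refine ⟨Subgroup.inv_mem _ hx.1, fun w hw => (hx.2.1 w hw).inv_right, ?_⟩
      rw [inv_pow, hx.2.2, inv_one]
  constructor
  · rintro ⟨z, hz⟩
    refine ⟨k, ?_⟩
    apply Subtype.ext
    rw [Subgroup.coe_pow, Subgroup.coe_one]
    exact (key z hz).2.2
  · intro z hz
    exact (key z hz).1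

end Cfsg.Agent.Lib.Helper24.CT
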