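import Cfsg.Agent.Lib.Helper24.CT.A03

/-!
# S4146 leaf A10: class sizes inside the centralizer of a primary element of class size `m₁`

PAPER PROOF.  `a` a `q`-element with `cl a = m₁`, `y ∈ centralizer {a}` of order prime to `q`.  By `cl_mul_of_coprime` (leaf A03; rewrite its `⊓` form with
`Subgroup.inf_relIndex_left`) `cl (a * y) = (centralizer {y}).relIndex (centralizer {a}) * m₁`.  As `cl (a * y) ∈ {1, m₁, n₁, m₁ * n₁}` is divisible by `m₁ > 1` and `n₁` is prime to `m₁`,
`cl (a * y) ∈ {m₁, m₁ * n₁}`; cancel `m₁`.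
`relIndex_ne_one`: if `(centralizer {b}).relIndex (centralizer {a}) = 1` then `centralizer {a} ≤ centralizer {b}` (`Subgroup.relIndex_eq_one`), so `n₁ = cl b ∣ cl a = m₁`
(`cl_dvd_of_centralizer_le`), contradicting coprimality and `1 < n₁`.
-/

set_option autoImplicit false

namespace Cfsg.Agent.Lib.Helper24.CT

variable {G : Type*} [Group G] {m₁ n₁ : ℕ}

theorem Hyp0.relIndex_cases [Finite G] (h : Hyp0 G m₁ n₁) {q : ℕ} (hq : q.Prime) {a y : G}
    (ha : cl a = m₁) (haq : IsPrimary q a) (hy : y ∈ Subgroup.centralizer ({a} : Set G))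
    (hyq : (orderOf y).Coprime q) :
    (Subgroup.centralizer ({y} : Set G)).relIndex (Subgroup.centralizer ({a} : Set G)) = 1 ∨
      (Subgroup.centralizer ({y} : Set G)).relIndex (Subgroup.centralizer ({a} : Set G)) = n₁ := by
  obtain ⟨k, hk⟩ := haq
  have hcomm : Commute a y := by
    have : y * a = a * y := (Subgroup.mem_centralizer_singleton_iff).mp hy
    exact this.symm
  have hcop : (orderOf a).Coprime (orderOf y) := by
    rw [hk]
    exact Nat.Coprime.pow_left k hyq.symm
  have hcl := cl_mul_of_coprime hcomm hcop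
  rw [Subgroup.inf_relIndex_left, ha] at hcl
  set r := (Subgroup.centralizer ({y} : Set G)).relIndex (Subgroup.centralizer ({a} : Set G)) with hr
  have hm1 : 1 < m₁ := h.one_lt_m
  have hm0 : 0 < m₁ := by omega
  rcases h.cs (a * y) with h1 | h1 | h1 | h1
  · exfalso
    rw [h1] at hcl
    have : m₁ ∣ 1 := ⟨r, by rw [mul_comm]; exact hcl⟩
    have := Nat.le_of_dvd (by norm_num) this
    omega
  · left
    rw [h1] at hcl
    have : r * m₁ = 1 * m₁ := by rw [one_mul]; exact hcl.symm
    exact Nat.eq_of_mul_eq_mul_right hm0 this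
  · exfalso
    rw [h1] at hcl
    have hdvd : m₁ ∣ n₁ := ⟨r, by rw [mul_comm]; exact hcl⟩
    have := Nat.Coprime.eq_one_of_dvd h.cop hdvd
    omega
  · right
    rw [h1] at hcl
    have : r * m₁ = n₁ * m₁ := by rw [mul_comm n₁ m₁]; exact hcl.symm
    exact Nat.eq_of_mul_eq_mul_right hm0 this

theorem Hyp0.relIndex_ne_one [Finite G] (h : Hyp0 G m₁ n₁) {a b : G} (ha : cl a = m₁) (hb : cl b = n₁) :
    (Subgroup.centralizer ({b} : Set G)).relIndex (Subgroup.centralizer ({a} : Set G)) ≠ 1 := by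
  intro h1
  have hle : Subgroup.centralizer ({a} : Set G) ≤ Subgroup.centralizer ({b} : Set G) :=
    Subgroup.relIndex_eq_one.mp h1
  have hdvd : cl b ∣ cl a := cl_dvd_of_centralizer_le hle
  rw [ha, hb] at hdvd
  have := Nat.Coprime.eq_one_of_dvd h.cop.symm hdvd
  have := h.one_lt_n
  omega

end Cfsg.Agent.Lib.Helper24.CT
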