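import Cfsg.Agent.Lib.Helper24.CT.A10
import Cfsg.Agent.S4035
import Cfsg.Agent.Lib.Helper1.Basic
import Cfsg.Agent.Lib.Helper22.Jordan
import Cfsg.Agent.Lib.Helper22.Conj

/-!
# S4146 leaf A11: the centralizer of a `q`-element of class size `m₁` (`q ∣ m₁`) is `P₀ × H₀` (`q`-group times `q'`-group)

PAPER PROOF.  Let `C = centralizer {a}`.  For `y ∈ C` of order prime to `q`, the `C`-class size of `y` is `(centralizer {y}).relIndex C ∈ {1, n₁}` (leaf A10), and `q ∤ n₁`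
(`q ∣ m₁`, coprime).  So `Cfsg.Agent.S4035.result` applies to the group `↥C`: a Sylow `q`-subgroup `P` of `↥C` is normal and has a normal complement `H` of order prime to `q`.
Put `P₀ = P.map C.subtype`, `H₀ = H.map C.subtype`.
THIS IS DONE LINE BY LINE in `Cfsg/Agent/S4127.lean` (`stepA`, Step B, `memP₀`, `memH₀`, `hcommPH`): copy from there.  `stepA` there shows how to identify
`(ConjClasses.mk y).carrier.ncard` for `y : ↥C` with the relIndex (`Cfsg.Agent.Lib.Helper22.index_centralizer_eq_ncard_carrier`, and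
`centralizer {y} = (centralizer {(y:G)}).subgroupOf C`).
`∀ v ∈ H₀, (orderOf v).Coprime q`: `orderOf v ∣ Nat.card H₀` and `q` prime does not divide it.  `P₀ ⊔ H₀ = C`: `Subgroup.map_sup`, `P ⊔ H = ⊤`, `Subgroup.map_top`/`Subgroup.range_subtype`.
-/

set_option autoImplicit false

namespace Cfsg.Agent.Lib.Helper24.CT

variable {G : Type*} [Group G] {m₁ n₁ : ℕ}

theorem Hyp0.exists_decomposition [Finite G] (h : Hyp0 G m₁ n₁) {q : ℕ} (hq : q.Prime) (hqm : q ∣ m₁)
    {a : G} (ha : cl a = m₁) (haq : IsPrimary q a) :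
    ∃ P₀ H₀ : Subgroup G, P₀ ≤ Subgroup.centralizer ({a} : Set G) ∧
      H₀ ≤ Subgroup.centralizer ({a} : Set G) ∧
      (∀ y ∈ Subgroup.centralizer ({a} : Set G), IsPrimary q y → y ∈ P₀) ∧
      (∀ y ∈ Subgroup.centralizer ({a} : Set G), (orderOf y).Coprime q → y ∈ H₀) ∧
      (∀ u ∈ P₀, ∀ v ∈ H₀, Commute u v) ∧
      (∀ v ∈ H₀, (orderOf v).Coprime q) ∧
      P₀ ⊔ H₀ = Subgroup.centralizer ({a} : Set G) := by
  haveI : Fact q.Prime := ⟨hq⟩
  have hqn : ¬ q ∣ n₁ := by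
    intro hqn
    have := Nat.eq_one_of_dvd_coprimes h.cop hqm hqn
    exact hq.one_lt.ne' this
  set C := Subgroup.centralizer ({a} : Set G) with hC
  -- Step A
  have stepA : ∀ y : ↥C, (orderOf y).Coprime q → ¬ q ∣ (ConjClasses.mk y).carrier.ncard := by
    intro y hy hdvd
    rw [← Cfsg.Agent.Lib.Helper22.index_centralizer_eq_ncard_carrier] at hdvd
    have h1 : Subgroup.centralizer ({y} : Set ↥C) =
        (Subgroup.centralizer ({(y : G)} : Set G)).subgroupOf C := by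
      ext g
      rw [Subgroup.mem_subgroupOf, Subgroup.mem_centralizer_iff, Subgroup.mem_centralizer_iff]
      constructor
      · intro h z hz
        rw [Set.mem_singleton_iff] at hz
        have := h y (Set.mem_singleton _)
        rw [hz]
        exact congrArg Subtype.val this
      · intro h z hz
        rw [Set.mem_singleton_iff] at hz
        rw [hz]
        apply Subtype.ext
        exact h (y : G) (Set.mem_singleton _)
    rw [h1] at hdvd
    have hyq : (orderOf (y : G)).Coprime q := by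
      rw [Subgroup.orderOf_coe]; exact hy
    have hrel : ((Subgroup.centralizer ({(y : G)} : Set G)).subgroupOf C).index =
        (Subgroup.centralizer ({(y : G)} : Set G)).relIndex C := rfl
    rw [hrel] at hdvd
    rcases h.relIndex_cases hq ha haq y.2 hyq with h2 | h2
    · rw [h2] at hdvd
      exact hq.one_lt.ne' (Nat.dvd_one.mp hdvd)
    · rw [h2] at hdvd
      exact hqn hdvd
  -- Step B
  obtain ⟨P₀⟩ : Nonempty (Sylow q ↥C) := inferInstance
  obtain ⟨hP₀n, H₀, hH₀n, hH₀p, hdisj, hsup⟩ := Cfsg.Agent.S4035.result stepA P₀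
  have hcompl : Subgroup.IsComplement' (P₀ : Subgroup ↥C) H₀ :=
    Cfsg.Agent.Lib.Helper1.isComplement'_of_disjoint_of_sup_eq_top (disjoint_iff.mpr hdisj) hsup
  have hH₀idx : H₀.index = Nat.card (P₀ : Subgroup ↥C) := hcompl.index_eq_card.symm ▸ rfl
  obtain ⟨n₀, hn₀⟩ := IsPGroup.iff_card.mp P₀.2
  have memP₀ : ∀ c : ↥C, (∃ j : ℕ, orderOf c = q ^ j) → c ∈ (P₀ : Subgroup ↥C) := by
    rintro c ⟨j, hj⟩
    apply Cfsg.Agent.Lib.Helper22.mem_of_coprime_index (P₀ : Subgroup ↥C) c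
    rw [hj]
    exact Nat.Coprime.pow_left j ((Nat.Prime.coprime_iff_not_dvd hq).mpr P₀.not_dvd_index)
  have memH₀ : ∀ c : ↥C, (orderOf c).Coprime q → c ∈ H₀ := by
    intro c hc
    apply Cfsg.Agent.Lib.Helper22.mem_of_coprime_index H₀ c
    rw [hH₀idx, hn₀]
    exact Nat.Coprime.pow_right n₀ hc
  have hcommPH : ∀ u ∈ (P₀ : Subgroup ↥C), ∀ h ∈ H₀, u * h = h * u := by
    intro u hu h hh
    exact Subgroup.commute_of_normal_of_disjoint _ _ hP₀n hH₀n (disjoint_iff.mpr hdisj) u h hu hh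
  have hH₀cop : (Nat.card H₀).Coprime q := ((Nat.Prime.coprime_iff_not_dvd hq).mpr hH₀p).symm
  refine ⟨(P₀ : Subgroup ↥C).map C.subtype, H₀.map C.subtype, Subgroup.map_subtype_le _,
    Subgroup.map_subtype_le _, ?_, ?_, ?_, ?_, ?_⟩
  · rintro y hy ⟨j, hj⟩
    refine ⟨⟨y, hy⟩, memP₀ ⟨y, hy⟩ ⟨j, ?_⟩, rfl⟩
    rw [Subgroup.orderOf_mk]; exact hj
  · intro y hy hyq
    refine ⟨⟨y, hy⟩, memH₀ ⟨y, hy⟩ ?_, rfl⟩
    rw [Subgroup.orderOf_mk]; exact hyq
  · rintro _ ⟨u, hu, rfl⟩ _ ⟨v, hv, rfl⟩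
    exact congrArg Subtype.val (hcommPH u hu v hv)
  · rintro _ ⟨v, hv, rfl⟩
    show (orderOf ((v : ↥C) : G)).Coprime q
    rw [Subgroup.orderOf_coe]
    have h1 : orderOf (⟨v, hv⟩ : ↥H₀) ∣ Nat.card H₀ := orderOf_dvd_natCard _
    rw [Subgroup.orderOf_mk] at h1
    exact Nat.Coprime.coprime_dvd_left h1 hH₀cop
  · rw [← Subgroup.map_sup, hsup, ← MonoidHom.range_eq_map, Subgroup.range_subtype]

end Cfsg.Agent.Lib.Helper24.CT
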