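import Cfsg.Agent.Lib.Helper24.CT.Defs

/-!
# S4146 leaf A12 (pure group theory): class sizes in a direct factor

PAPER PROOF.  `H = P₀ ⊔ H₀` with `P₀` and `H₀` commuting elementwise, `v ∈ H₀`.  Then `P₀ ≤ centralizer {v}`, every element of `H` is `w * u` with `w ∈ H₀`, `u ∈ P₀`
(`Subgroup.mem_sup` / `Subgroup.mul_mem_sup`; the product set `H₀ * P₀` is closed since the factors commute: `Subgroup.closure_induction` or `Subgroup.mem_sup`), so the map
`H₀ ⧸ (C(v) ⊓ H₀) → H ⧸ (C(v) ⊓ H)` is a bijection.  Lean: `Subgroup.relIndex` = index of `subgroupOf`; one clean way: `K := centralizer {v}`;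
`K.relIndex H₀ = (K ⊓ H).relIndex H₀` (`Subgroup.inf_relIndex_right`-style since `H₀ ≤ H`), and `(K ⊓ H) ⊔ H₀ = H`, `(K ⊓ H)` and `H₀`… use
`Subgroup.relIndex_inf_mul_relIndex`, or cardinalities: `Nat.card H = Nat.card H₀ * Nat.card P₀ / Nat.card (P₀ ⊓ H₀)` and the same for the centralizers
`C_H(v) = P₀ ⊔ C_{H₀}(v)`.  Any proof is fine.
-/

set_option autoImplicit false

namespace Cfsg.Agent.Lib.Helper24.CT

variable {G : Type*} [Group G]

theorem relIndex_centralizer_of_sup_of_commute [Finite G] {P₀ H₀ H : Subgroup G} (hsup : P₀ ⊔ H₀ = H)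
    (hcomm : ∀ u ∈ P₀, ∀ w ∈ H₀, Commute u w) {v : G} (hv : v ∈ H₀) :
    (Subgroup.centralizer ({v} : Set G)).relIndex H₀ =
      (Subgroup.centralizer ({v} : Set G)).relIndex H := by
  classical
  set K : Subgroup G := Subgroup.centralizer ({v} : Set G) with hK
  have hH₀H : H₀ ≤ H := hsup ▸ le_sup_right
  have hP₀H : P₀ ≤ H := hsup ▸ le_sup_left
  have hP₀K : P₀ ≤ K := by
    intro u hu
    apply (Subgroup.mem_centralizer_singleton_iff).mpr
    exact (hcomm u hu v hv).eq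
  -- every element of `H` is `w * u`
  have hdecomp : ∀ x ∈ H, ∃ w ∈ H₀, ∃ u ∈ P₀, x = w * u := by
    let M : Subgroup G :=
      { carrier := {x | ∃ w ∈ H₀, ∃ u ∈ P₀, x = w * u}
        mul_mem' := by
          rintro x y ⟨w1, hw1, u1, hu1, rfl⟩ ⟨w2, hw2, u2, hu2, rfl⟩
          refine ⟨w1 * w2, H₀.mul_mem hw1 hw2, u1 * u2, P₀.mul_mem hu1 hu2, ?_⟩
          have hc := (hcomm u1 hu1 w2 hw2).eq
          calc w1 * u1 * (w2 * u2) = w1 * (u1 * w2) * u2 := by group
            _ = w1 * (w2 * u1) * u2 := by rw [hc]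
            _ = w1 * w2 * (u1 * u2) := by group
        one_mem' := ⟨1, H₀.one_mem, 1, P₀.one_mem, by simp⟩
        inv_mem' := by
          rintro x ⟨w, hw, u, hu, rfl⟩
          refine ⟨w⁻¹, H₀.inv_mem hw, u⁻¹, P₀.inv_mem hu, ?_⟩
          have hc := (hcomm u⁻¹ (P₀.inv_mem hu) w⁻¹ (H₀.inv_mem hw)).eq
          rw [mul_inv_rev, hc] }
    have hle : P₀ ⊔ H₀ ≤ M := by
      apply sup_le
      · intro u hu
        exact ⟨1, H₀.one_mem, u, hu, by simp⟩
      · intro w hw
        exact ⟨w, hw, 1, P₀.one_mem, by simp⟩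
    intro x hx
    rw [← hsup] at hx
    exact hle hx
  let f0 : ↥H₀ → ↥H ⧸ K.subgroupOf H := fun a => QuotientGroup.mk ⟨a.1, hH₀H a.2⟩
  have hf0 : ∀ a b : ↥H₀, (QuotientGroup.leftRel (K.subgroupOf H₀)) a b → f0 a = f0 b := by
    intro a b hab
    rw [QuotientGroup.leftRel_apply] at hab
    show (QuotientGroup.mk _ : ↥H ⧸ K.subgroupOf H) = QuotientGroup.mk _
    rw [QuotientGroup.eq]
    rw [Subgroup.mem_subgroupOf] at hab ⊢
    exact hab
  let f : ↥H₀ ⧸ K.subgroupOf H₀ → ↥H ⧸ K.subgroupOf H := Quotient.lift f0 hf0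
  have hinj : Function.Injective f := by
    intro x y hxy
    induction x using Quotient.inductionOn with
    | _ a =>
      induction y using Quotient.inductionOn with
      | _ b =>
        apply Quotient.sound
        show (QuotientGroup.leftRel (K.subgroupOf H₀)) a b
        rw [QuotientGroup.leftRel_apply]
        have h0 : f0 a = f0 b := hxy
        have h1 : (QuotientGroup.mk (⟨a.1, hH₀H a.2⟩ : ↥H) : ↥H ⧸ K.subgroupOf H)
            = QuotientGroup.mk ⟨b.1, hH₀H b.2⟩ := h0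
        rw [QuotientGroup.eq] at h1
        rw [Subgroup.mem_subgroupOf] at h1 ⊢
        exact h1
  have hsurj : Function.Surjective f := by
    intro y
    induction y using Quotient.inductionOn with
    | _ x =>
      obtain ⟨w, hw, u, hu, hxe⟩ := hdecomp x.1 x.2
      refine ⟨Quotient.mk _ ⟨w, hw⟩, ?_⟩
      show (QuotientGroup.mk (⟨w, hH₀H hw⟩ : ↥H) : ↥H ⧸ K.subgroupOf H) = QuotientGroup.mk x
      rw [QuotientGroup.eq, Subgroup.mem_subgroupOf]
      have : ((⟨w, hH₀H hw⟩ : ↥H)⁻¹ * x : ↥H).1 = u := by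
        show w⁻¹ * x.1 = u
        rw [hxe]; group
      rw [this]
      exact hP₀K hu
  have hcard : Nat.card (↥H₀ ⧸ K.subgroupOf H₀) = Nat.card (↥H ⧸ K.subgroupOf H) :=
    Nat.card_congr (Equiv.ofBijective f ⟨hinj, hsurj⟩)
  show (K.subgroupOf H₀).index = (K.subgroupOf H).index
  rw [Subgroup.index, Subgroup.index]
  exact hcard

end Cfsg.Agent.Lib.Helper24.CT
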