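import Cfsg.Agent.Lib.Helper24.CT.Defs
import Cfsg.Agent.S4134
import Cfsg.Agent.Lib.Helper22.Jordan

/-!
# S4146 leaf A13: application of Ito's theorem (`Cfsg.Agent.S4134.result`) to a subgroup `H₀`

PAPER PROOF.  All class sizes of the group `↥H₀` are `1` or `n₁` and `b` has class size `n₁` there (for `x : ↥H₀`,
`centralizer {x} = (centralizer {(x:G)}).subgroupOf H₀` - see `stepA` in `Cfsg/Agent/S4127.lean` - so its index is `(centralizer {(x:G)}).relIndex H₀`).
`Cfsg.Agent.S4134.result` gives a prime `p`, `n₁ = p ^ c`, a normal Sylow `p`-subgroup `P` of `↥H₀` with a normal commutative complement `N` commuting elementwise with `P`.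
If `p = u` we are done.  Otherwise `⟨b, hb⟩ ∈ N` (its order `u ^ j` is prime to `N.index = Nat.card P`, a power of `p`; `Cfsg.Agent.Lib.Helper22.mem_of_coprime_index` as in
`Cfsg/Agent/S4127.lean`, or `Subgroup.IsComplement'.index_eq_card`), hence `⟨b, hb⟩` commutes with `N` (commutative) and with `P`, hence with `N ⊔ P = ⊤`
(`Subgroup.IsComplement'.sup_eq_top`), so its centralizer in `↥H₀` is `⊤` and the relIndex is `1 ≠ n₁`: contradiction.
-/

set_option autoImplicit false

namespace Cfsg.Agent.Lib.Helper24.CT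

variable {G : Type*} [Group G]

namespace A13

theorem centralizer_subtype (H₀ : Subgroup G) (x : ↥H₀) :
    Subgroup.centralizer ({x} : Set ↥H₀) =
      (Subgroup.centralizer ({(x : G)} : Set G)).subgroupOf H₀ := by
  ext y
  rw [Subgroup.mem_centralizer_singleton_iff, Subgroup.mem_subgroupOf,
    Subgroup.mem_centralizer_singleton_iff, Subtype.ext_iff]
  simp

theorem index_centralizer_subtype (H₀ : Subgroup G) (x : ↥H₀) :
    (Subgroup.centralizer ({x} : Set ↥H₀)).index =
      (Subgroup.centralizer ({(x : G)} : Set G)).relIndex H₀ := by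
  rw [centralizer_subtype]; rfl

end A13

theorem ito_apply [Finite G] {H₀ : Subgroup G} {n₁ : ℕ} (hn : 1 < n₁)
    (hcs : ∀ v ∈ H₀, (Subgroup.centralizer ({v} : Set G)).relIndex H₀ = 1 ∨
      (Subgroup.centralizer ({v} : Set G)).relIndex H₀ = n₁)
    {u : ℕ} (hu : u.Prime) {b : G} (hb : b ∈ H₀) (hbu : IsPrimary u b)
    (hbn : (Subgroup.centralizer ({b} : Set G)).relIndex H₀ = n₁) : ∃ c : ℕ, n₁ = u ^ c := by
  have h1 : ∀ x : ↥H₀, (Subgroup.centralizer ({x} : Set ↥H₀)).index = 1 ∨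
      (Subgroup.centralizer ({x} : Set ↥H₀)).index = n₁ := by
    intro x
    rw [A13.index_centralizer_subtype]
    exact hcs x x.2
  have hex : ∃ x : ↥H₀, (Subgroup.centralizer ({x} : Set ↥H₀)).index = n₁ :=
    ⟨⟨b, hb⟩, by rw [A13.index_centralizer_subtype]; exact hbn⟩
  obtain ⟨p, hp, a, hna, hP⟩ := Cfsg.Agent.S4134.result (G := ↥H₀) n₁ hn h1 hex
  by_cases hpu : p = u
  · exact ⟨a, by rw [← hpu]; exact hna⟩
  exfalso
  obtain ⟨P⟩ : Nonempty (Sylow p ↥H₀) := inferInstance
  obtain ⟨hPn, ⟨N, hNn, hNP, hNc, hNPc⟩, -⟩ := hP P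
  obtain ⟨j, hj⟩ := hbu
  have hbo : orderOf (⟨b, hb⟩ : ↥H₀) = u ^ j := by
    rw [← hj]
    exact Subgroup.orderOf_mk b hb
  -- N.index = card P is a power of p
  have hNidx : N.index = Nat.card ↥(P : Subgroup ↥H₀) := hNP.symm.index_eq_card
  obtain ⟨k, hk⟩ := (IsPGroup.iff_card.mp P.isPGroup')
  have hcop : (orderOf (⟨b, hb⟩ : ↥H₀)).Coprime N.index := by
    rw [hbo, hNidx, hk]
    apply Nat.Coprime.pow
    exact (Nat.coprime_primes hu hp.out).mpr (fun h => hpu h.symm)
  haveI := hNn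
  have hbN : (⟨b, hb⟩ : ↥H₀) ∈ N := Cfsg.Agent.Lib.Helper22.mem_of_coprime_index N _ hcop
  -- b commutes with N ⊔ P = ⊤
  have hcent : Subgroup.centralizer ({(⟨b, hb⟩ : ↥H₀)} : Set ↥H₀) = ⊤ := by
    rw [eq_top_iff, ← hNP.sup_eq_top, sup_le_iff]
    constructor
    · intro y hy
      rw [Subgroup.mem_centralizer_singleton_iff]
      have := hNc.is_comm.comm ⟨y, hy⟩ ⟨⟨b, hb⟩, hbN⟩
      exact congrArg Subtype.val this
    · intro y hy
      rw [Subgroup.mem_centralizer_singleton_iff]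
      exact (hNPc _ hbN y hy).symm
  have : (Subgroup.centralizer ({(⟨b, hb⟩ : ↥H₀)} : Set ↥H₀)).index = n₁ := by
    rw [A13.index_centralizer_subtype]; exact hbn
  rw [hcent, Subgroup.index_top] at this
  omega

end Cfsg.Agent.Lib.Helper24.CT
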