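import Cfsg.Agent.Lib.Helper24.CT.Defs2
import Cfsg.Agent.S4127

/-!
# S4146 leaf A16: application of Camina's normal `p`-complement theorem (`Cfsg.Agent.S4127.result`)

PAPER PROOF.  `m₁ = q ^ k`, `n₁ = r ^ c`, `q ≠ r` primes; every class size is one of `1, q ^ k, r ^ c, q ^ k * r ^ c`, none of which is divisible by `q ^ (k + 1)`
(`Nat.Coprime.dvd_of_dvd_mul_right` with `(q ^ (k+1)).Coprime (r ^ c)` (`Nat.coprime_pow_primes`), and `q ^ (k + 1) ∣ q ^ k` is impossible: `Nat.pow_dvd_pow_iff_le_right`).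
`a` is a `q`-element of class size exactly `q ^ k`.  Apply `Cfsg.Agent.S4127.result q k hmax ⟨a, haq, _⟩` (with `haveI : Fact q.Prime := ⟨hq⟩`).
-/

set_option autoImplicit false

namespace Cfsg.Agent.Lib.Helper24.CT

variable {G : Type*} [Group G] {m₁ n₁ : ℕ}

theorem Hyp0.hasNormalPComplement [Finite G] (h : Hyp0 G m₁ n₁) {q r k c : ℕ} (hq : q.Prime) (hr : r.Prime)
    (hqr : q ≠ r) (hm : m₁ = q ^ k) (hn : n₁ = r ^ c) {a : G} (ha : cl a = m₁) (haq : IsPrimary q a) :
    Cfsg.HasNormalPComplement q G := by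
  have : Fact q.Prime := ⟨hq⟩
  have hcopqr : (q ^ (k + 1)).Coprime (r ^ c) := Nat.coprime_pow_primes _ _ hq hr hqr
  have hnot : ¬ q ^ (k + 1) ∣ q ^ k := by
    intro hd
    have := (Nat.pow_dvd_pow_iff_le_right hq.one_lt).mp hd
    omega
  have hmax : ∀ y : G, ¬ q ^ (k + 1) ∣ (Subgroup.centralizer ({y} : Set G)).index := by
    intro y hd
    have hd' : q ^ (k + 1) ∣ cl y := hd
    rcases h.cs y with h1 | h1 | h1 | h1
    · rw [h1] at hd'
      have h2 := Nat.le_of_dvd (by norm_num) hd'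
      have h3 : 1 < q ^ (k + 1) := Nat.one_lt_pow (by omega) hq.one_lt
      omega
    · rw [h1, hm] at hd'
      exact hnot hd'
    · rw [h1, hn] at hd'
      have h2 := Nat.Coprime.eq_one_of_dvd hcopqr hd'
      have h3 : 1 < q ^ (k + 1) := Nat.one_lt_pow (by omega) hq.one_lt
      omega
    · rw [h1, hm, hn] at hd'
      exact hnot (Nat.Coprime.dvd_of_dvd_mul_right hcopqr hd')
  exact Cfsg.Agent.S4127.result q k hmax ⟨a, haq, by rw [← hm]; exact ha⟩

end Cfsg.Agent.Lib.Helper24.CT
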