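import Mathlib
import Cfsg.Prelude.Def_Transfer
import Cfsg.Agent.Lib.Helper13.PNilpotent

/-!
# S4146 leaf A17 (pure group theory): two normal complements with central intersection give nilpotency

PAPER PROOF.  By `Cfsg.Agent.Lib.Helper13.hasNormalPComplement_iff_exists` there are normal subgroups `K_q` (order prime to `q`, index a power of `q`) and `K_r` (same for `r`).
`f : G →* (G ⧸ K_q) × (G ⧸ K_r)` (`MonoidHom.prod (QuotientGroup.mk' K_q) (QuotientGroup.mk' K_r)`) has kernel `K_q ⊓ K_r` (`MonoidHom.ker_prod`, `QuotientGroup.ker_mk'`).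
An element `g` of the kernel has `orderOf g ∣ Nat.card K_q` and `∣ Nat.card K_r` (`orderOf_dvd_natCard` for the subtype, `Subgroup.orderOf_mk`), hence prime to `q` and to `r`, hence central by `hcen`.
The target is nilpotent: `G ⧸ K_q` has cardinality `K_q.index = q ^ k` (`Subgroup.index_eq_card`), so it is a `q`-group (`IsPGroup.of_card`), nilpotent (`IsPGroup.isNilpotent`);
product: `Group.isNilpotent_prod`.  Conclude with Mathlib's `isNilpotent_of_ker_le_center`.
-/

set_option autoImplicit false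

namespace Cfsg.Agent.Lib.Helper24.CT

variable {G : Type*} [Group G]

theorem isNilpotent_of_two_normal_complements [Finite G] {q r : ℕ} (hq : q.Prime) (hr : r.Prime)
    (hcq : Cfsg.HasNormalPComplement q G) (hcr : Cfsg.HasNormalPComplement r G)
    (hcen : ∀ g : G, (orderOf g).Coprime q → (orderOf g).Coprime r → g ∈ Subgroup.center G) :
    Group.IsNilpotent G := by
  haveI : Fact q.Prime := ⟨hq⟩
  haveI : Fact r.Prime := ⟨hr⟩
  obtain ⟨Kq, hKqn, hKqc, kq, hkq⟩ := Cfsg.Agent.Lib.Helper13.hasNormalPComplement_iff_exists.mp hcq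
  obtain ⟨Kr, hKrn, hKrc, kr, hkr⟩ := Cfsg.Agent.Lib.Helper13.hasNormalPComplement_iff_exists.mp hcr
  haveI := hKqn
  haveI := hKrn
  have hPq : IsPGroup q (G ⧸ Kq) := IsPGroup.of_card (n := kq) (by rw [← Subgroup.index_eq_card, hkq])
  have hPr : IsPGroup r (G ⧸ Kr) := IsPGroup.of_card (n := kr) (by rw [← Subgroup.index_eq_card, hkr])
  haveI : Group.IsNilpotent (G ⧸ Kq) := hPq.isNilpotent
  haveI : Group.IsNilpotent (G ⧸ Kr) := hPr.isNilpotent
  haveI : Group.IsNilpotent ((G ⧸ Kq) × (G ⧸ Kr)) := Group.isNilpotent_prod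
  apply Subgroup.isNilpotent_of_ker_le_center ((QuotientGroup.mk' Kq).prod (QuotientGroup.mk' Kr))
  intro g hg
  rw [MonoidHom.ker_prod, QuotientGroup.ker_mk', QuotientGroup.ker_mk'] at hg
  have h1 : orderOf g ∣ Nat.card Kq := by
    have := orderOf_dvd_natCard (⟨g, hg.1⟩ : Kq)
    rwa [Subgroup.orderOf_mk] at this
  have h2 : orderOf g ∣ Nat.card Kr := by
    have := orderOf_dvd_natCard (⟨g, hg.2⟩ : Kr)
    rwa [Subgroup.orderOf_mk] at this
  exact hcen g (Nat.Coprime.coprime_dvd_left h1 hKqc) (Nat.Coprime.coprime_dvd_left h2 hKrc)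

end Cfsg.Agent.Lib.Helper24.CT
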