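import Cfsg.Agent.Lib.Helper24.CT.Defs

/-!
# S4146 leaf A19: from the statement's hypothesis to `Hyp`

`Set.range (fun x => cl x) = {1, n, m, n * m}` unfolds (`Set.ext_iff`, `Set.mem_range`, `Set.mem_insert_iff`, `Set.mem_singleton_iff`) to: every class size is one of the four values, and each of the
four values is attained.  `hyp_of_range` (for `m < n`) and `hyp_of_range'` (for `n < m`, roles exchanged, `mul_comm`) just repackage this.
`ne_of_coprime`: `n = m` with `n.Coprime m` gives `n = 1`.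
-/

set_option autoImplicit false

namespace Cfsg.Agent.Lib.Helper24.CT

variable {G : Type*} [Group G]

theorem hyp_of_range (n m : ℕ) (hm : 1 < m) (hcop : n.Coprime m)
    (h : Set.range (fun x : G => (Subgroup.centralizer ({x} : Set G)).index) = ({1, n, m, n * m} : Set ℕ))
    (hlt : m < n) : Hyp G m n := by
  have hmem : ∀ k : ℕ, k ∈ Set.range (fun x : G => (Subgroup.centralizer ({x} : Set G)).index) ↔
      k = 1 ∨ k = n ∨ k = m ∨ k = n * m := by
    intro k
    rw [h]
    simp only [Set.mem_insert_iff, Set.mem_singleton_iff]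
  refine ⟨hm, hlt, hcop.symm, ?_, ?_, ?_, ?_⟩
  · intro g
    have hg : cl g ∈ Set.range (fun x : G => (Subgroup.centralizer ({x} : Set G)).index) := ⟨g, rfl⟩
    rcases (hmem _).mp hg with h1 | h1 | h1 | h1
    · exact Or.inl h1
    · exact Or.inr (Or.inr (Or.inl h1))
    · exact Or.inr (Or.inl h1)
    · exact Or.inr (Or.inr (Or.inr (by rw [h1, mul_comm])))
  · obtain ⟨g, hg⟩ := (hmem m).mpr (Or.inr (Or.inr (Or.inl rfl)))
    exact ⟨g, hg⟩
  · obtain ⟨g, hg⟩ := (hmem n).mpr (Or.inr (Or.inl rfl))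
    exact ⟨g, hg⟩
  · obtain ⟨g, hg⟩ := (hmem (n * m)).mpr (Or.inr (Or.inr (Or.inr rfl)))
    exact ⟨g, by rw [mul_comm]; exact hg⟩

theorem hyp_of_range' (n m : ℕ) (hn : 1 < n) (hcop : n.Coprime m)
    (h : Set.range (fun x : G => (Subgroup.centralizer ({x} : Set G)).index) = ({1, n, m, n * m} : Set ℕ))
    (hlt : n < m) : Hyp G n m := by
  have hmem : ∀ k : ℕ, k ∈ Set.range (fun x : G => (Subgroup.centralizer ({x} : Set G)).index) ↔
      k = 1 ∨ k = n ∨ k = m ∨ k = n * m := by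
    intro k
    rw [h]
    simp only [Set.mem_insert_iff, Set.mem_singleton_iff]
  refine ⟨hn, hlt, hcop, ?_, ?_, ?_, ?_⟩
  · intro g
    have hg : cl g ∈ Set.range (fun x : G => (Subgroup.centralizer ({x} : Set G)).index) := ⟨g, rfl⟩
    exact (hmem _).mp hg
  · obtain ⟨g, hg⟩ := (hmem n).mpr (Or.inr (Or.inl rfl))
    exact ⟨g, hg⟩
  · obtain ⟨g, hg⟩ := (hmem m).mpr (Or.inr (Or.inr (Or.inl rfl)))
    exact ⟨g, hg⟩
  · obtain ⟨g, hg⟩ := (hmem (n * m)).mpr (Or.inr (Or.inr (Or.inr rfl)))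
    exact ⟨g, hg⟩

theorem ne_of_coprime_of_one_lt {n m : ℕ} (hn : 1 < n) (hcop : n.Coprime m) : n ≠ m := by
  intro h
  rw [← h] at hcop
  have h1 : n = 1 := (Nat.coprime_self n).mp hcop
  omega

end Cfsg.Agent.Lib.Helper24.CT
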