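import Cfsg.Agent.Lib.Helper24.CT.B01
import Cfsg.Agent.Lib.Helper24.CT.B02

/-!
# S4146 leaf B03: the elements of class size `1` or `m` form a normal subgroup (uses `m < n`)

PAPER PROOF of `mul_mem_M`.  Let `cl u, cl v ∈ {1, m}`.  If `cl u = 1` then `u` is central and
`centralizer {u * v} = centralizer {v}`, so `cl (u * v) = cl v`; same if `cl v = 1`.  Otherwise `cl u = cl v = m`.  Put
`D = centralizer {u} ⊓ centralizer {v} ≤ centralizer {u * v}`.  Then `D.index = m * k` with
`k = D.relIndex (centralizer {u}) ≤ (centralizer {v}).index = m` (`Subgroup.relIndex_mul_index`, `Subgroup.inf_relIndex_left`,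
`Subgroup.relIndex_le_index`-type lemma: `(H ⊓ K).relIndex H = K.relIndex H ≤ K.index`), `0 < k`.  `cl (u * v) ∣ m * k`.
If `cl (u * v) ∈ {n, m * n}` then `n ∣ m * k`, so `n ∣ k` (coprime), so `n ≤ k ≤ m < n`: contradiction.
`mem_A_iff`: `Subgroup.closure_induction` with the predicate `cl g = 1 ∨ cl g = m` (`one`: `cl 1 = 1` by `cl_eq_one_iff`;
`inv`: `cl_inv`; `mul`: `mul_mem_M`), and `Subgroup.subset_closure` for the converse.
`A_normal`: the generating set is invariant under conjugation (`cl_conj`); `Subgroup.closure` of a conjugation-invariant set is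
normal (`Subgroup.normalClosure_eq_self`-style, or `Subgroup.closure_induction` on `g * x * g⁻¹`; e.g. prove
`A G m = Subgroup.normalClosure {g | …}` via `Subgroup.normalClosure_le_normal`/`Subgroup.closure_le`, or directly
`⟨fun x hx g => …⟩` with `Subgroup.closure_induction`).
-/

set_option autoImplicit false

namespace Cfsg.Agent.Lib.Helper24.CT

variable {G : Type*} [Group G] {m n : ℕ}

namespace B03aux

theorem cl_mul_of_central_left {u : G} (hu : cl u = 1) (v : G) : cl (u * v) = cl v := by
  have huZ : u ∈ Subgroup.center G := (cl_eq_one_iff u).mp hu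
  have hcomm : ∀ g : G, g * u = u * g := fun g => Subgroup.mem_center_iff.mp huZ g
  have hE : Subgroup.centralizer ({u * v} : Set G) = Subgroup.centralizer ({v} : Set G) := by
    ext g
    rw [Subgroup.mem_centralizer_singleton_iff, Subgroup.mem_centralizer_singleton_iff]
    constructor
    · intro h1
      have h2 : u * (g * v) = u * (v * g) := by
        calc u * (g * v) = (u * g) * v := by group
          _ = (g * u) * v := by rw [hcomm g]
          _ = g * (u * v) := by group
          _ = u * v * g := h1
          _ = u * (v * g) := by group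
      exact mul_left_cancel h2
    · intro h1
      calc g * (u * v) = (g * u) * v := by group
        _ = (u * g) * v := by rw [hcomm g]
        _ = u * (g * v) := by group
        _ = u * (v * g) := by rw [h1]
        _ = u * v * g := by group
  show (Subgroup.centralizer ({u * v} : Set G)).index = (Subgroup.centralizer ({v} : Set G)).index
  rw [hE]

theorem cl_mul_of_central_right (u : G) {v : G} (hv : cl v = 1) : cl (u * v) = cl u := by
  have hvZ : v ∈ Subgroup.center G := (cl_eq_one_iff v).mp hv
  have hcomm : u * v = v * u := (Subgroup.mem_center_iff.mp hvZ u)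
  rw [hcomm]
  exact cl_mul_of_central_left hv u

end B03aux

theorem Hyp.mul_mem_M [Finite G] (h : Hyp G m n) {u v : G} (hu : cl u = 1 ∨ cl u = m)
    (hv : cl v = 1 ∨ cl v = m) : cl (u * v) = 1 ∨ cl (u * v) = m := by
  rcases hu with hu | hu
  · rw [B03aux.cl_mul_of_central_left hu v]; exact hv
  rcases hv with hv | hv
  · rw [B03aux.cl_mul_of_central_right u hv]; exact Or.inr hu
  -- both of class size m
  have hD : Subgroup.centralizer ({u} : Set G) ⊓ Subgroup.centralizer ({v} : Set G)
      ≤ Subgroup.centralizer ({u * v} : Set G) := by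
    intro g hg
    have h1 : g * u = u * g := Subgroup.mem_centralizer_singleton_iff.mp hg.1
    have h2 : g * v = v * g := Subgroup.mem_centralizer_singleton_iff.mp hg.2
    rw [Subgroup.mem_centralizer_singleton_iff]
    calc g * (u * v) = (g * u) * v := by group
      _ = (u * g) * v := by rw [h1]
      _ = u * (g * v) := by group
      _ = u * (v * g) := by rw [h2]
      _ = u * v * g := by group
  have hdvd : cl (u * v) ∣ (Subgroup.centralizer ({u} : Set G) ⊓ Subgroup.centralizer ({v} : Set G)).index :=
    Subgroup.index_dvd_of_le hD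
  have hrel := Subgroup.relIndex_mul_index
    (inf_le_left : Subgroup.centralizer ({u} : Set G) ⊓ Subgroup.centralizer ({v} : Set G)
      ≤ Subgroup.centralizer ({u} : Set G))
  have hle : (Subgroup.centralizer ({u} : Set G) ⊓ Subgroup.centralizer ({v} : Set G)).index ≤ m * m := by
    have := Subgroup.index_inf_le (H := Subgroup.centralizer ({u} : Set G)) (K := Subgroup.centralizer ({v} : Set G))
    rw [← cl_def, ← cl_def, hu, hv] at this
    exact this
  have hpos : 0 < (Subgroup.centralizer ({u} : Set G) ⊓ Subgroup.centralizer ({v} : Set G)).index :=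
    Nat.pos_of_ne_zero Subgroup.index_ne_zero_of_finite
  rw [← cl_def, hu] at hrel
  -- k * m = index D
  set k := (Subgroup.centralizer ({u} : Set G) ⊓ Subgroup.centralizer ({v} : Set G)).relIndex
    (Subgroup.centralizer ({u} : Set G)) with hk
  have hmpos : 0 < m := lt_trans Nat.zero_lt_one h.one_lt_m
  have hkm : k ≤ m := by
    have : k * m ≤ m * m := by rw [hrel]; exact hle
    exact Nat.le_of_mul_le_mul_right this hmpos
  have hkpos : 0 < k := by
    rcases Nat.eq_zero_or_pos k with h0 | h0
    · rw [h0, zero_mul] at hrel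
      omega
    · exact h0
  have hcontra : ¬ n ∣ cl (u * v) := by
    intro hn
    have h1 : n ∣ k * m := by rw [hrel]; exact hn.trans hdvd
    have h2 : n ∣ k := (Nat.Coprime.dvd_of_dvd_mul_right h.cop.symm h1)
    have h3 : n ≤ k := Nat.le_of_dvd hkpos h2
    have := h.lt
    omega
  rcases h.cs (u * v) with h1 | h1 | h1 | h1
  · exact Or.inl h1
  · exact Or.inr h1
  · exact absurd (h1 ▸ dvd_rfl) hcontra
  · exact absurd (h1 ▸ Dvd.intro_left m rfl) hcontra

theorem Hyp.mem_A_iff [Finite G] (h : Hyp G m n) (g : G) : g ∈ A G m ↔ (cl g = 1 ∨ cl g = m) := by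
  constructor
  · intro hg
    unfold A at hg
    induction hg using Subgroup.closure_induction with
    | mem x hx => exact hx
    | one => exact Or.inl ((cl_eq_one_iff 1).mpr (Subgroup.one_mem _))
    | mul x y _ _ hx hy => exact h.mul_mem_M hx hy
    | inv x _ hx => rw [cl_inv]; exact hx
  · intro hg
    exact Subgroup.subset_closure hg

instance A_normal (m : ℕ) : (A G m).Normal := by
  constructor
  intro x hx g
  unfold A at hx ⊢
  induction hx using Subgroup.closure_induction with
  | mem x hx =>
    apply Subgroup.subset_closure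
    show cl (g * x * g⁻¹) = 1 ∨ cl (g * x * g⁻¹) = m
    rw [cl_conj]
    exact hx
  | one =>
    have : g * 1 * g⁻¹ = 1 := by group
    rw [this]; exact Subgroup.one_mem _
  | mul x y _ _ hx hy =>
    have : g * (x * y) * g⁻¹ = (g * x * g⁻¹) * (g * y * g⁻¹) := by group
    rw [this]; exact Subgroup.mul_mem _ hx hy
  | inv x _ hx =>
    have : g * x⁻¹ * g⁻¹ = (g * x * g⁻¹)⁻¹ := by group
    rw [this]; exact Subgroup.inv_mem _ hx

theorem center_le_A (m : ℕ) : Subgroup.center G ≤ A G m := by
  intro z hz
  apply Subgroup.subset_closure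
  exact Or.inl ((cl_eq_one_iff z).mpr hz)

/-- elements of `A` have class size `1` or `m` in the form used by `Cfsg.Agent.Lib.Helper12.TwoClassN.CS` -/
theorem Hyp.cs_A [Finite G] (h : Hyp G m n) :
    ∀ x ∈ A G m, (Subgroup.centralizer ({x} : Set G)).index = 1 ∨
      (Subgroup.centralizer ({x} : Set G)).index = m := by
  intro x hx
  exact (h.mem_A_iff x).mp hx

end Cfsg.Agent.Lib.Helper24.CT
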