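import Cfsg.Agent.Lib.Helper24.CT.Defs

/-!
# S4146: SUPERSEDED stub (intentionally empty)

This file belonged to a second sub-farm for part (β) that was superseded by `Cfsg/Agent/Lib/Helper15/CTB/*` (helper15's farm covers all of (β)).
Nothing imports it; it is kept only so that no path on main disappears.
-/
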