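import Cfsg.Agent.Lib.Helper24.CT.B03
import Cfsg.Agent.Lib.Helper24.CT.B04
import Cfsg.Agent.Lib.Helper24.CT.B05
import Cfsg.Agent.Lib.Helper24.CT.B06
import Cfsg.Agent.Lib.Helper15.CTB.Main

/-!
# S4146, part (β): every element of class size `m` commutes with every element of class size `n`

INTERFACE of the (β) half (co-architected).  The paper proof is in `BetaNotes.lean` (module docstring).
The proof is the farm `Cfsg/Agent/Lib/Helper15/CTB/` (architect helper15).
-/

set_option autoImplicit false

namespace Cfsg.Agent.Lib.Helper24.CT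

variable {G : Type*} [Group G] {m n : ℕ}

theorem Hyp.commute_of_cl [Finite G] (h : Hyp G m n) {a b : G} (ha : cl a = m) (hb : cl b = n) :
    Commute a b :=
  Cfsg.Agent.Lib.Helper15.CTB.commute_of_cl h ha hb

end Cfsg.Agent.Lib.Helper24.CT
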