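import Cfsg.Agent.Lib.Helper24.CT.Defs

/-!
# S4146, part (β): PAPER PROOF that class size `m` elements commute with class size `n` elements

Notation: `G` finite, `Hyp G m n` (class sizes `1, m, n, mn`, `1 < m < n`, coprime), `Z = center G`, `C(g) = centralizer {g}`,
`cl g = |G : C(g)|`, `A = A G m` = the normal subgroup of elements of class size `1` or `m` (leaf file B03).
Available basics (leaf files B01..B06): `cl_conj`, `cl_dvd_of_mem_zpowers`, arithmetic of the four sizes,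
B04 (`G = C(b) C(a)`, conjugates of `a` are `C(b)`-conjugates, if `a` commutes with `b` so do all conjugates),
B05 (primary power with the same centralizer), B06 (a `t`-element of class size `m` with `t ∤ n` commutes with all class size `n` elements;
a `u`-element of class size `n` with `u ∤ m` commutes with all class size `m` elements).

Suppose `a₀` (`cl = m`) and `b₀` (`cl = n`) do not commute.

Step 0.  By B05 take a primary power `b` of `b₀` with `C(b) = C(b₀)`, `cl b = n`; `a₀` does not commute with `b`.  Let `s` be the prime of `b`.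
  By B06, `s ∣ m` (so `s ∤ n`).   All of Steps 1-9 are for an ARBITRARY `s`-primary `b`, `cl b = n`, not commuting with some element of `A`.
  Put `D = A ⊓ C(b)`, `K = ⁅A, ⊤⁆`, `St = {k | ∀ x, IsConj b x → IsConj b (k * x)}`, `Y = C(b)`.
Step 1.  `a ∈ A` not commuting with `b` (so `cl a = m`): `cl (a * b) = n`.
  [`≠ 1, m`: else `a * b ∈ A`, `b ∈ A`.  `= m * n`: `C(a) ⊓ C(b) ≤ C(a*b)` and `(C(a) ⊓ C(b)).index = m * n` (coprime indices), so
  `C(a*b) = C(a) ⊓ C(b) ∋ a * b`, so `a * b` commutes with `a`, so `b` commutes with `a`.]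
Step 2.  Same `a, b`.  For all `g`: `(g * a * g⁻¹)⁻¹ * a * b` is conjugate to `b`.
  [(i) for `a' ∈ a^G`, `b' ∈ b^G`: `a' * b' ∈ (a*b)^G`  (write `a' = g a g⁻¹`, `b' = g' b g'⁻¹`, `g⁻¹ g' = c y`, `c ∈ C(a)`, `y ∈ C(b)`:
  `a' b' = (g c) (a b) (g c)⁻¹`).  (ii) `b' ↦ a' * b'` is an injection `b^G → (a*b)^G` between sets of the same size `n`, so it is onto: `a * b = a' * b'`.]
Step 3.  `St` is a normal subgroup of `G`, `Nat.card St ∣ n` (`b^G` is a union of right cosets `St * x`), `k * b ∈ b^G` for `k ∈ St`.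
  For `a ∈ A` not commuting with `b` and all `g`: `(g a g⁻¹)⁻¹ * a ∈ St`  [Step 2 for each conjugate `b''` of `b`: `a` does not commute with `b''` by B04].
Step 4.  `K ≤ St ⊓ A`; so `Nat.card K ∣ n`.   [`⁅a', g⁆ = a' (g a' g⁻¹)⁻¹` is a conjugate of `(g a' g⁻¹)⁻¹ a' ∈ St` if `a' ∉ D`; if `a' ∈ D` pick `a ∉ D`:
  `⁅a * a', g⁆ = a * ⁅a', g⁆ * a⁻¹ * ⁅a, g⁆` and `a * a' ∉ D`.]
Step 6.  `K ⊓ C(b) = ⊥`.  [`k ∈ K` commuting with `b`: `k * b ∈ b^G` has order `orderOf b = s ^ j`, so `k ^ (s ^ j) = 1`; `orderOf k ∣ Nat.card K ∣ n` is prime to `s`.]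
Step 7.  `D = Z`.  [`D` is normal in `G` (B04), `⁅D, ⊤⁆ ≤ D ⊓ K ≤ K ⊓ C(b) = ⊥`.]
Step 8.  `Nat.card A = Nat.card K * Nat.card Z`.  [`a ↦ ⁅a, b⁆ ∈ K` is injective on `A / Z`; `K ⊓ Z = ⊥`, `K ⊔ Z ≤ A`.]
Step 9.  `m + 1 ≤ Nat.card K`.  [`K ≠ ⊥` (else `A ≤ Z`), `K ⊓ Z = ⊥`, `K ≤ A` normal: a nontrivial `w ∈ K` has `m` conjugates, all in `K \ {1}`.]
Step 10 (dichotomy).  For EVERY `b'` with `cl b' = n`: either `b'` commutes with all of `A`, or `A ⊓ C(b') = Z`.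
  [B05: a primary power `b''` with the same centralizer; B06: its prime divides `m`; Steps 1-7 for `b''` (same `K`).]
From now on `b` is fixed as in Step 0, `Y = C(b)`, `C = centralizer (K : Set G)`.   `K ⊓ Y = ⊥`, `A ⊓ Y = Z`.
Step 12 (*).  `w ∈ K` of prime order `r` (then `r ∣ n`, `cl w = m`), `y ∈ C(w)` with `orderOf y` prime to `r`:
  `cl (w * y) = m * (C(w) ⊓ C(y)).relIndex (C(w))`, so this relIndex is `1` or `n`; if it is `1` then `cl y ∣ m`, i.e. `y ∈ A`.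
Step 13 (**).  `y ∈ Y` with `orderOf y` prime to `s`: `(C(b) ⊓ C(y)).relIndex (C(b)) ∈ {1, m}`; if it is `1` then `cl y ∣ n`.
Step 14 (Claim 1).  `w ∈ K` of prime order `r`.  Then `C(w) ⊓ Y ≤ C`.
  [Enough for primary `y ∈ C(w) ⊓ Y` (B05 `exists_primary_not_mem`).  If `y ∈ Z` fine.  Else `y ∉ A` (`A ⊓ Y = Z`).
   (a) `y` an `r'`-element: Step 12 gives `|y^{C(w)}| = n`.  If `cl y = m * n` then `C(y) = C(w) ⊓ C(y) ≤ C(w)` (same order); but `b ∈ C(y)`, so `b` commutes with `w`,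
       `w ∈ K ⊓ C(b) = ⊥`: contradiction.  So `cl y = n`, and `w ∈ A ⊓ C(y)`, `w ∉ Z`, so by Step 10 `y` commutes with all of `A ⊇ K`.
   (b) `y` an `r`-element (so prime to `s`): Step 13.  If relIndex `= 1`: `cl y = n`, `C(y) = Y`; but `w ∈ C(y)`, `w ∉ Y`.  So relIndex `= m`.  If `cl y = m * n` then
       `C(y) = C(b) ⊓ C(y) ≤ Y`, but `w ∈ C(y) \ Y`.  So `cl y = n`, and as in (a) `y` centralizes `A ⊇ K`.]
  Hence `Y₀ := Y ⊓ C = Y ⊓ C(w)`, `Y₀.relIndex Y = m` (`G = C(w) Y`), `Nat.card Y₀ * (m * n) = Nat.card G`.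
Step 15 (Claim 2).  `y ∈ Y₀` with `orderOf y` prime to `s` is central.
  [Else Step 13: relIndex `= 1` gives `C(y) = Y`, but `K ≤ C(y)`, `K ⊓ Y = ⊥`, `K ≠ ⊥`.  So `|C(b) ⊓ C(y)| = |G| / (m n)`, `C(y) ⊇ K (C(b) ⊓ C(y))` of order
   `|K| |G| / (m n)`, so `cl y ≤ m n / |K| < n` (Step 9), so `y ∈ A ⊓ Y = Z`.]
Step 16 (Claim 3).  `r` prime, `r ∣ n`: every `r`-element `x` of `G` lies in `A`.
  [`r`-part of `|G| = m n |Y₀|`: `|G|_r = n_r |Y₀|_r`, and `|Y₀|_r = |Z|_r` (`r`-elements of `Y₀` are central, `Z ≤ Y₀`).  If `n ∣ cl x` then `|C(x)|_r = |Z|_r`, but `C(x)` contains the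
   `r`-group `zpowers x ⊔ Z_r` which is bigger than `Z_r`.]
Step 17.  `Nat.card K = n`.  [Sylow `r`-subgroups of `G` lie in `A`; `|A| = |K| |Z|`; so `|K|_r = n_r` for all `r ∣ n`; `|K| ∣ n`.]
Step 18 (end).  `G = K * Y` (orders), `K ⊓ Y = ⊥`.  For `y ∈ Y₀`: `C(y * b) = Y ⊓ C(y)`  [`g = k y'`: compare `K`- and `Y`-components of `g (y b) = (y b) g`, using that `y`
  centralizes `K`: `k = b k b⁻¹`, so `k = 1`] and `K (Y ⊓ C(y)) ≤ C(y)`.  So `cl (y * b) = n * t`, `t = |Y : Y ⊓ C(y)| ∈ {1, m}` and `cl y ≤ t ≤ m`, so `y ∈ A ⊓ Y = Z`.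
  Thus `Y₀ ≤ Z`, `|G| ≤ m n |Z|`; an element `g` of class size `m n` has `|C(g)| ≤ |Z|`, `Z ≤ C(g)`, so `C(g) = Z ∋ g`, `cl g = 1`: contradiction.
-/
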