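import Cfsg.Agent.Lib.Helper24.CT.Beta
import Cfsg.Agent.Lib.Helper24.CT.A05
import Cfsg.Agent.Lib.Helper24.CT.A06
import Cfsg.Agent.Lib.Helper24.CT.A07

/-!
# S4146, case 2: some primary element of class size `m` is a `q`-element with `q ∣ m`

(assembly; sorry-free modulo the leaves)
-/

set_option autoImplicit false

namespace Cfsg.Agent.Lib.Helper24.CT

variable {G : Type*} [Group G] {m n : ℕ}

theorem Hyp.commute_of_mem_A_of_cl_n [Finite G] (h : Hyp G m n) {k y : G} (hk : k ∈ A G m)
    (hy : cl y = n) : Commute k y := by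
  rcases (h.mem_A_iff k).mp hk with h1 | h1
  · have hc := (cl_eq_one_iff k).mp h1
    exact (Subgroup.mem_center_iff.mp hc y).symm
  · exact h.commute_of_cl h1 hy

/-- Case 2 is impossible: there is a prime `q ∣ m` and a `q`-element of class size `m`. -/
theorem Hyp.exists_typeI_m [Finite G] (h : Hyp G m n) :
    ∃ q : ℕ, q.Prime ∧ q ∣ m ∧ ∃ a : G, IsPrimary q a ∧ cl a = m := by
  by_contra hno
  obtain ⟨a₀, ha₀⟩ := h.exm
  obtain ⟨t, ht, a, -, hat, ha, -⟩ := h.exists_primary_cl_m ha₀
  have htm : ¬ t ∣ m := fun hd => hno ⟨t, ht, hd, a, hat, ha⟩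
  haveI : Fact t.Prime := ⟨ht⟩
  have haA : a ∈ A G m := (h.mem_A_iff a).mpr (Or.inr ha)
  obtain ⟨q, hq, hqm⟩ := Nat.exists_prime_and_dvd (ne_of_gt h.one_lt_m)
  have hqn : ¬ q ∣ n := h.not_dvd_n_of_dvd_m hq hqm
  obtain ⟨b₀, hb₀⟩ := h.exn
  obtain ⟨u, hu, b, -, hbu, hb, -⟩ := h.exists_primary_cl_n hb₀
  obtain ⟨hKp, hKA⟩ := h.isPGroup_normalClosure ht htm haA hat
  have key : ∀ x : G, IsPrimary q x → Commute x a := by
    intro x hxq
    rcases h.cs x with hx | hx | hx | hx
    · have hc := (cl_eq_one_iff x).mp hx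
      exact (Subgroup.mem_center_iff.mp hc a).symm
    · exact h.commute_of_mem_A ht htm haA hat x ((h.mem_A_iff x).mpr (Or.inr hx))
    · exact (h.commute_of_cl ha hx).symm
    · obtain ⟨g, hg⟩ := h.toHyp0.exists_centralizer_le hq hu hx hxq hbu (by rw [hb]; exact hqn)
      have hy : cl (g * b * g⁻¹) = n := by rw [cl_conj]; exact hb
      have hKy : Subgroup.normalClosure ({a} : Set G) ≤
          Subgroup.centralizer ({g * b * g⁻¹} : Set G) := by
        intro k hk
        rw [Subgroup.mem_centralizer_singleton_iff]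
        exact (h.commute_of_mem_A_of_cl_n (hKA hk) hy).eq
      have hle := h.le_centralizer_of_centralizer_le hx hy hg htm hKp hKy
      have hax : a ∈ Subgroup.centralizer ({x} : Set G) :=
        hle (Subgroup.subset_normalClosure (Set.mem_singleton a))
      rw [Subgroup.mem_centralizer_singleton_iff] at hax
      exact hax.symm
  exact not_dvd_cl_of_forall_commute hq key (by rw [ha]; exact hqm)

end Cfsg.Agent.Lib.Helper24.CT
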