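import Mathlib

/-!
# S4146: class sizes `{1, m, n, mn}` with `(m, n) = 1` -- common definitions

`cl g` is the class size of `g` (the index of its centralizer).  `Hyp G m n` is the standing hypothesis
(normalised so that `m < n`).  `Aset G m` is the subgroup generated by the elements of class size `1` or `m`
(under `Hyp` it is exactly the set of these elements: leaf `Hyp.mem_A_iff`).
-/

set_option autoImplicit false

namespace Cfsg.Agent.Lib.Helper24.CT

variable {G : Type*} [Group G]

/-- the class size of `g`: index of the centralizer -/
noncomputable abbrev cl (g : G) : ℕ := (Subgroup.centralizer ({g} : Set G)).index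

theorem cl_def (g : G) : cl g = (Subgroup.centralizer ({g} : Set G)).index := rfl

/-- `g` has order a power of `p` -/
def IsPrimary (p : ℕ) (g : G) : Prop := ∃ k : ℕ, orderOf g = p ^ k

/-- standing hypothesis: the class sizes of `G` are exactly `1, m, n, m * n`, with `m < n` coprime, `1 < m` -/
structure Hyp (G : Type*) [Group G] (m n : ℕ) : Prop where
  one_lt_m : 1 < m
  lt : m < n
  cop : m.Coprime n
  cs : ∀ g : G, cl g = 1 ∨ cl g = m ∨ cl g = n ∨ cl g = m * n
  exm : ∃ g : G, cl g = m
  exn : ∃ g : G, cl g = n
  exmn : ∃ g : G, cl g = m * n

/-- the subgroup generated by the elements of class size `1` or `m` -/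
def A (G : Type*) [Group G] (m : ℕ) : Subgroup G :=
  Subgroup.closure {g : G | cl g = 1 ∨ cl g = m}

end Cfsg.Agent.Lib.Helper24.CT
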