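import Cfsg.Agent.Lib.Helper24.CT.Defs

/-!
# S4146: the symmetric hypothesis `Hyp0` (no `m < n`), used for the lemmas that are applied on both sides
-/

set_option autoImplicit false

namespace Cfsg.Agent.Lib.Helper24.CT

variable {G : Type*} [Group G]

/-- symmetric hypothesis: class sizes in `{1, m₁, n₁, m₁ * n₁}`, coprime, both `> 1` -/
structure Hyp0 (G : Type*) [Group G] (m₁ n₁ : ℕ) : Prop where
  one_lt_m : 1 < m₁
  one_lt_n : 1 < n₁
  cop : m₁.Coprime n₁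
  cs : ∀ g : G, cl g = 1 ∨ cl g = m₁ ∨ cl g = n₁ ∨ cl g = m₁ * n₁

theorem Hyp.toHyp0 {m n : ℕ} (h : Hyp G m n) : Hyp0 G m n :=
  ⟨h.one_lt_m, lt_trans h.one_lt_m h.lt, h.cop, h.cs⟩

theorem Hyp0.symm {m₁ n₁ : ℕ} (h : Hyp0 G m₁ n₁) : Hyp0 G n₁ m₁ :=
  ⟨h.one_lt_n, h.one_lt_m, h.cop.symm, fun g => by
    rcases h.cs g with h1 | h1 | h1 | h1
    · exact Or.inl h1
    · exact Or.inr (Or.inr (Or.inl h1))
    · exact Or.inr (Or.inl h1)
    · exact Or.inr (Or.inr (Or.inr (by rw [h1, mul_comm])))⟩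

end Cfsg.Agent.Lib.Helper24.CT
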