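import Cfsg.Agent.Lib.Helper24.CT.A04
import Cfsg.Agent.Lib.Helper24.CT.A11
import Cfsg.Agent.Lib.Helper24.CT.A12
import Cfsg.Agent.Lib.Helper24.CT.A13

/-!
# S4146: lemmas T and U (assembly; sorry-free modulo the leaves)
-/

set_option autoImplicit false

namespace Cfsg.Agent.Lib.Helper24.CT

variable {G : Type*} [Group G] {m₁ n₁ : ℕ}

theorem coprime_of_isPrimary {u q : ℕ} (hu : u.Prime) (hq : q.Prime) (huq : u ≠ q) {b : G}
    (hbu : IsPrimary u b) : (orderOf b).Coprime q := by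
  obtain ⟨j, hj⟩ := hbu
  rw [hj]
  exact Nat.Coprime.pow_left j ((Nat.coprime_primes hu hq).mpr huq)

/-- Lemma T: `a` a `q`-element of class size `m₁` (`q ∣ m₁`), `b` a `u`-element (`u ≠ q`) of class size `n₁` commuting with `a`:
then `n₁` is a power of `u`. -/
theorem Hyp0.lemmaT [Finite G] (h : Hyp0 G m₁ n₁) {q u : ℕ} (hq : q.Prime) (hqm : q ∣ m₁)
    (hu : u.Prime) (huq : u ≠ q) {a b : G} (ha : cl a = m₁) (haq : IsPrimary q a) (hb : cl b = n₁)
    (hbu : IsPrimary u b) (hab : Commute a b) : ∃ c : ℕ, n₁ = u ^ c := by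
  obtain ⟨P₀, H₀, -, hH₀C, -, hmemH, hcomm, hcopH, hsup⟩ := h.exists_decomposition hq hqm ha haq
  have hbC : b ∈ Subgroup.centralizer ({a} : Set G) := by
    rw [Subgroup.mem_centralizer_singleton_iff]; exact hab.eq.symm
  have hbH : b ∈ H₀ := hmemH b hbC (coprime_of_isPrimary hu hq huq hbu)
  have hcs : ∀ v ∈ H₀, (Subgroup.centralizer ({v} : Set G)).relIndex H₀ = 1 ∨
      (Subgroup.centralizer ({v} : Set G)).relIndex H₀ = n₁ := by
    intro v hv
    rw [relIndex_centralizer_of_sup_of_commute hsup hcomm hv]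
    exact h.relIndex_cases hq ha haq (hH₀C hv) (hcopH v hv)
  have hbn : (Subgroup.centralizer ({b} : Set G)).relIndex H₀ = n₁ := by
    rcases hcs b hbH with h1 | h1
    · exfalso
      rw [relIndex_centralizer_of_sup_of_commute hsup hcomm hbH] at h1
      exact h.relIndex_ne_one ha hb h1
    · exact h1
  exact ito_apply h.one_lt_n hcs hu hbH hbu hbn

/-- Lemma U: `a` a `q`-element of class size `m₁` (`q ∣ m₁`) cannot commute with a `q`-element of class size `n₁`. -/
theorem Hyp0.lemmaU [Finite G] (h : Hyp0 G m₁ n₁) {q : ℕ} (hq : q.Prime) (hqm : q ∣ m₁)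
    {a b : G} (ha : cl a = m₁) (haq : IsPrimary q a) (hb : cl b = n₁)
    (hbq : IsPrimary q b) (hab : Commute a b) : False := by
  obtain ⟨P₀, H₀, -, -, hmemP, hmemH, hcomm, -, -⟩ := h.exists_decomposition hq hqm ha haq
  have hbC : b ∈ Subgroup.centralizer ({a} : Set G) := by
    rw [Subgroup.mem_centralizer_singleton_iff]; exact hab.eq.symm
  have hbP : b ∈ P₀ := hmemP b hbC hbq
  obtain ⟨r, hr, hrn⟩ := Nat.exists_prime_and_dvd (ne_of_gt h.one_lt_n)
  have hrm : ¬ r ∣ m₁ := by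
    intro hrm
    have := Nat.dvd_gcd hrm hrn
    rw [h.cop] at this
    exact hr.one_lt.ne' (Nat.dvd_one.mp this)
  have hrq : r ≠ q := by
    rintro rfl
    exact hrm hqm
  haveI : Fact r.Prime := ⟨hr⟩
  obtain ⟨R, hR⟩ := exists_sylow_le_centralizer_of_not_dvd_cl (r := r) (a := a) (by rw [ha]; exact hrm)
  have hRb : (R : Subgroup G) ≤ Subgroup.centralizer ({b} : Set G) := by
    intro x hx
    have hxr : IsPrimary r x := by
      obtain ⟨j, hj⟩ := (IsPGroup.iff_orderOf.mp R.2) ⟨x, hx⟩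
      exact ⟨j, by rw [← hj, Subgroup.orderOf_mk]⟩
    have hxH : x ∈ H₀ := hmemH x (hR hx) (coprime_of_isPrimary hr hq hrq hxr)
    rw [Subgroup.mem_centralizer_singleton_iff]
    exact (hcomm b hbP x hxH).eq.symm
  have h1 : cl b ∣ (R : Subgroup G).index := Subgroup.index_dvd_of_le hRb
  rw [hb] at h1
  exact R.not_dvd_index (dvd_trans hrn h1)

end Cfsg.Agent.Lib.Helper24.CT
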