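import Cfsg.Agent.Lib.Helper24.CT.Case2
import Cfsg.Agent.Lib.Helper24.CT.TU
import Cfsg.Agent.Lib.Helper24.CT.A01
import Cfsg.Agent.Lib.Helper24.CT.A16
import Cfsg.Agent.Lib.Helper24.CT.A17

/-!
# S4146: main assembly (sorry-free modulo the leaves)
-/

set_option autoImplicit false

namespace Cfsg.Agent.Lib.Helper24.CT

variable {G : Type*} [Group G] {m n : ℕ}

/-- Case 3 is impossible: there is a prime `r ∣ n` and an `r`-element of class size `n`. -/
theorem Hyp.exists_typeI_n [Finite G] (h : Hyp G m n) :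
    ∃ r : ℕ, r.Prime ∧ r ∣ n ∧ ∃ b : G, IsPrimary r b ∧ cl b = n := by
  by_contra hno
  obtain ⟨q, hq, hqm, a, haq, ha⟩ := h.exists_typeI_m
  obtain ⟨b₀, hb₀⟩ := h.exn
  obtain ⟨u, hu, b, -, hbu, hb, -⟩ := h.exists_primary_cl_n hb₀
  have hun : ¬ u ∣ n := fun hd => hno ⟨u, hu, hd, b, hbu, hb⟩
  have hab : Commute a b :=
    h.commute_of_primary_not_dvd_n hq (h.not_dvd_n_of_dvd_m hq hqm) ha haq hb
  by_cases huq : u = q
  · subst huq
    exact h.toHyp0.lemmaU hu hqm ha haq hb hbu hab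
  · obtain ⟨c, hc⟩ := h.toHyp0.lemmaT hq hqm hu huq ha haq hb hbu hab
    apply hun
    rcases Nat.eq_zero_or_pos c with h0 | h0
    · exfalso
      rw [h0, pow_zero] at hc
      exact (ne_of_gt h.one_lt_n) hc
    · rw [hc]
      exact dvd_pow_self u (ne_of_gt h0)

theorem isPrimePow_of_eq_pow {N u c : ℕ} (hu : u.Prime) (hN : 1 < N) (hc : N = u ^ c) : IsPrimePow N := by
  rcases Nat.eq_zero_or_pos c with h0 | h0
  · exfalso
    rw [h0, pow_zero] at hc
    exact (ne_of_gt hN) hc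
  · exact ⟨u, c, hu.prime, h0, hc.symm⟩

/-- the theorem under the normalisation `m < n` -/
theorem Hyp.result [Finite G] (h : Hyp G m n) :
    Group.IsNilpotent G ∧ IsPrimePow n ∧ IsPrimePow m := by
  obtain ⟨q, hq, hqm, a, haq, ha⟩ := h.exists_typeI_m
  obtain ⟨r, hr, hrn, b, hbr, hb⟩ := h.exists_typeI_n
  have hqn : ¬ q ∣ n := h.not_dvd_n_of_dvd_m hq hqm
  have hrq : r ≠ q := by
    rintro rfl
    exact hqn hrn
  have hab : Commute a b := h.commute_of_primary_not_dvd_n hq hqn ha haq hb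
  obtain ⟨c, hc⟩ := h.toHyp0.lemmaT hq hqm hr hrq ha haq hb hbr hab
  obtain ⟨k, hk⟩ := h.toHyp0.symm.lemmaT hr hrn hq hrq.symm hb hbr ha haq hab.symm
  have hcq : Cfsg.HasNormalPComplement q G :=
    h.toHyp0.hasNormalPComplement hq hr hrq.symm hk hc ha haq
  have hcr : Cfsg.HasNormalPComplement r G :=
    h.toHyp0.symm.hasNormalPComplement hr hq hrq hc hk hb hbr
  refine ⟨?_, isPrimePow_of_eq_pow hr h.one_lt_n hc, isPrimePow_of_eq_pow hq h.one_lt_m hk⟩
  apply isNilpotent_of_two_normal_complements hq hr hcq hcr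
  intro g hgq hgr
  apply h.toHyp0.mem_center_of_coprime
  rw [hk, hc]
  exact Nat.Coprime.mul_right (Nat.Coprime.pow_right k hgq) (Nat.Coprime.pow_right c hgr)

end Cfsg.Agent.Lib.Helper24.CT
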